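import Groth.Agent.SiteBase.ExtMod
import Groth.Agent.QCoh.ToSheaf
import Groth.Agent.KFlatLib.Scheme.Grothendieck
import Groth.Agent.Lib.CurveEnd
import Groth.Agent.Lib.CurveDualPrep
import Groth.Prelude.Def_Coh
import Groth.Prelude.Def_DCoh2
import Mathlib.Algebra.Homology.DerivedCategory.Ext.Map

/-!
# `Hom_D(O_X, M[1]) = H¹(X, M)`, natural and compatible with scalars
-/

set_option autoImplicit false
set_option linter.style.haveILetI false
set_option backward.isDefEq.respectTransparency false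
set_option backward.isDefEq.respectTransparency.types false

universe u

open CategoryTheory CategoryTheory.Limits AlgebraicGeometry TopologicalSpace Opposite Abelian

attribute [local instance] HasDerivedCategory.standard

namespace Groth.Agent.CurveDual15

variable {X : Scheme.{u}} [HasExt.{u} X.Modules]

instance preservesFiniteColimits_toAbFunctor (X : Scheme.{u}) :
    PreservesFiniteColimits (QCoh.toAbFunctor X) :=
  (QCoh.toAbFunctor X).preservesFiniteColimits_of_preservesHomology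

/-- The canonical map `Ext¹(O_X, M) ⟶ H¹(X, M)`. -/
noncomputable def extToHH (M : X.Modules) (n : ℕ) : Ext (Coh.structureModule X) M n →+ Coh.HH X M n :=
  AddMonoidHom.mk' (fun x => (Ext.mk₀ (SiteBase.oneHom X.ringCatSheaf)).comp
      (x.mapExactFunctor (QCoh.toAbFunctor X)) (zero_add n))
    fun x y => by rw [Ext.mapExactFunctor_add, Ext.comp_add]

lemma extToHH_comp {M N : X.Modules} (g : M ⟶ N) (n : ℕ) (x : Ext (Coh.structureModule X) M n) :
    extToHH N n (x.comp (Ext.mk₀ g) (add_zero n)) =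
      Sheaf.H.map ((QCoh.toAbFunctor X).map g) n (extToHH M n x) := by
  show (Ext.mk₀ _).comp ((x.comp (Ext.mk₀ g) (add_zero n)).mapExactFunctor _) (zero_add n) = _
  rw [Ext.mapExactFunctor_comp, Ext.mapExactFunctor_mk₀, Sheaf.H.map_apply]
  exact (Ext.comp_assoc_of_third_deg_zero _ _ _ _).symm

omit [HasExt.{u} X.Modules] in
lemma subsingleton_HH_injective (I : X.Modules) [hI : Injective I] (q : ℕ) :
    Subsingleton (Ext ((constantSheaf (Opens.grothendieckTopology X) AddCommGrpCat.{u}).obj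
      (AddCommGrpCat.of (ULift.{u} ℤ))) ((SheafOfModules.toSheaf X.ringCatSheaf).obj I) (q + 1)) := by
  refine subsingleton_of_forall_eq 0 fun x => ?_
  have h : (Ext.mk₀ (SiteBase.constIsoFreeSh (Opens.grothendieckTopology X)).inv).comp x
      (zero_add (q + 1)) = 0 :=
    (@SiteBase.isTotallyAcyclic_toSheaf_injective _ _ _ X.ringCatSheaf I hI
      ((presheafToSheaf (Opens.grothendieckTopology X) (Type u)).obj
        ((Functor.const _).obj PUnit.{u + 1})) q).elim _ _
  have := congrArg (fun e => (Ext.mk₀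
    (SiteBase.constIsoFreeSh (Opens.grothendieckTopology X)).hom).comp e (zero_add (q + 1))) h
  rw [Ext.mk₀_comp_mk₀_assoc, Iso.hom_inv_id, Ext.mk₀_id_comp, Ext.comp_zero] at this
  exact this

omit [HasExt.{u} X.Modules] in
lemma exists_ses (M : X.Modules) :
    ∃ S : ShortComplex X.Modules, S.ShortExact ∧ Injective S.X₂ ∧ S.X₁ = M := by
  obtain ⟨P⟩ := EnoughInjectives.presentation M
  exact ⟨P.shortComplex, P.shortExact_shortComplex, P.injective, rfl⟩

/-- `Ext¹(O_X, M) = H¹(X, M)`. -/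
theorem bijective_extToHH (M : X.Modules) : Function.Bijective (extToHH M 1) := by
  obtain ⟨S, hS, hI, rfl⟩ := exists_ses M
  haveI := hI
  let F := QCoh.toAbFunctor X
  have hFS : (S.map F).ShortExact := hS.map_of_exact F
  let u := SiteBase.oneHom X.ringCatSheaf
  have hconn : ∀ φ : Coh.structureModule X ⟶ S.X₃,
      extToHH S.X₁ 1 ((Ext.mk₀ φ).comp hS.extClass (zero_add 1)) =
        (Ext.mk₀ (u ≫ F.map φ)).comp hFS.extClass (zero_add 1) := fun φ => by
    show (Ext.mk₀ u).comp (((Ext.mk₀ φ).comp hS.extClass (zero_add 1)).mapExactFunctor F) (zero_add 1) = _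
    rw [Ext.mapExactFunctor_comp, Ext.mapExactFunctor_mk₀, Ext.mapExactFunctor_extClass F hS]
    exact Ext.mk₀_comp_mk₀_assoc u (F.map φ) hFS.extClass
  have hA := SiteBase.conn_surjective (Coh.structureModule X) hS (Ext.subsingleton_of_injective _ _ 0)
  refine ⟨(injective_iff_map_eq_zero _).2 fun x hx => ?_, fun y => ?_⟩
  · obtain ⟨φ, rfl⟩ := hA x
    rw [hconn] at hx
    obtain ⟨ψ, hψ⟩ := (SiteBase.conn_eq_zero_iff _ hFS _).1 hx
    obtain ⟨χ, rfl⟩ := (SiteBase.oneHom_comp_bijective (R := X.ringCatSheaf) S.X₂).surjective ψ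
    refine (SiteBase.conn_eq_zero_iff _ hS φ).2 ⟨χ, ?_⟩
    refine (SiteBase.oneHom_comp_bijective (R := X.ringCatSheaf) S.X₃).injective ?_
    show u ≫ F.map (χ ≫ S.g) = u ≫ F.map φ
    rw [F.map_comp, ← Category.assoc]
    exact hψ
  · obtain ⟨ψ, rfl⟩ := SiteBase.conn_surjective _ hFS (subsingleton_HH_injective S.X₂ 0) y
    obtain ⟨φ, hφ⟩ := (SiteBase.oneHom_comp_bijective (R := X.ringCatSheaf) S.X₃).surjective ψ
    refine ⟨(Ext.mk₀ φ).comp hS.extClass (zero_add 1), (hconn φ).trans ?_⟩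
    exact congrArg (fun w => (Ext.mk₀ w).comp hFS.extClass (zero_add 1)) hφ

/-- A global function, as an endomorphism of the structure sheaf, may be moved across a class. -/
theorem ext_scalar_comm (M : X.Modules) (r : Γ(X, ⊤)) (x : Ext (Coh.structureModule X) M 1) :
    (Ext.mk₀ (CurveEnd.smulMod (Coh.structureModule X) r)).comp x (zero_add 1) =
      x.comp (Ext.mk₀ (CurveEnd.smulMod M r)) (add_zero 1) := by
  obtain ⟨S, hS, hI, rfl⟩ := exists_ses M
  haveI := hI
  obtain ⟨φ, rfl⟩ := SiteBase.conn_surjective (Coh.structureModule X) hS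
    (Ext.subsingleton_of_injective _ _ 0) x
  have hc : ∀ {A B : X.Modules} (g : A ⟶ B),
      CurveEnd.smulMod A r ≫ g = g ≫ CurveEnd.smulMod B r := fun {A B} g => by
    apply Scheme.Modules.hom_ext
    intro W
    ext a
    show g.app W ((CurveEnd.smulMod A r).app W a) = (CurveEnd.smulMod B r).app W (g.app W a)
    rw [CurveEnd.smulMod_app, CurveEnd.smulMod_app, Scheme.Modules.Hom.app_smul]
  let α : S ⟶ S :=
    { τ₁ := CurveEnd.smulMod _ r, τ₂ := CurveEnd.smulMod _ r, τ₃ := CurveEnd.smulMod _ r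
      comm₁₂ := hc _, comm₂₃ := hc _ }
  rw [Ext.mk₀_comp_mk₀_assoc, hc φ, ← Ext.mk₀_comp_mk₀_assoc,
    ShortComplex.ShortExact.extClass_naturality hS hS α |>.symm]
  exact (Ext.comp_assoc_of_third_deg_zero _ _ _ _).symm

/-- Morphisms `O_X ⟶ M[1]` in the derived category, as classes in `H¹`. -/
noncomputable def homHH (M : X.Modules) :
    (DCoh.inD X (Coh.structureModule X) ⟶ (DCoh.inD X M)⟦(1 : ℤ)⟧) ≃+ Coh.HH X M 1 :=
  Ext.homAddEquiv.symm.trans (AddEquiv.ofBijective (extToHH M 1) (bijective_extToHH M))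

lemma hom_comp_mk₀ {M N : X.Modules} (g : M ⟶ N) (α : Ext (Coh.structureModule X) M 1) :
    (α.comp (Ext.mk₀ g) (add_zero 1)).hom =
      (α.hom : _ ⟶ _) ≫ ((DerivedCategory.singleFunctor X.Modules 0).map g)⟦(1 : ℤ)⟧' := by
  rw [Ext.comp_hom, Ext.mk₀_hom]
  exact ShiftedHom.comp_mk₀ _ _ _ _

lemma hom_mk₀_comp {M N : X.Modules} (g : Coh.structureModule X ⟶ N)
    (α : Ext N M 1) :
    ((Ext.mk₀ g).comp α (zero_add 1)).hom =
      (DerivedCategory.singleFunctor X.Modules 0).map g ≫ (α.hom : _ ⟶ _) := by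
  rw [Ext.comp_hom, Ext.mk₀_hom]
  exact ShiftedHom.mk₀_comp _ _ _ _

lemma homHH_apply (M : X.Modules) (α : Ext (Coh.structureModule X) M 1) :
    homHH M α.hom = extToHH M 1 α :=
  congrArg (extToHH M 1) (Ext.homAddEquiv.symm_apply_apply α)

/-- Naturality of `homHH`. -/
lemma homHH_comp {M N : X.Modules} (g : M ⟶ N)
    (x : DCoh.inD X (Coh.structureModule X) ⟶ (DCoh.inD X M)⟦(1 : ℤ)⟧) :
    homHH N (x ≫ ((DerivedCategory.singleFunctor X.Modules 0).map g)⟦(1 : ℤ)⟧') =
      Sheaf.H.map ((QCoh.toAbFunctor X).map g) 1 (homHH M x) := by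
  obtain ⟨α, rfl⟩ : ∃ α : Ext (Coh.structureModule X) M 1, α.hom = x :=
    Ext.homAddEquiv.surjective x
  rw [← hom_comp_mk₀, homHH_apply, homHH_apply, extToHH_comp]

/-- Scalars act as precomposition. -/
lemma homHH_smul (M : X.Modules) (r : Γ(X, ⊤))
    (x : DCoh.inD X (Coh.structureModule X) ⟶ (DCoh.inD X M)⟦(1 : ℤ)⟧) :
    homHH M ((DerivedCategory.singleFunctor X.Modules 0).map
      (CurveEnd.smulMod (Coh.structureModule X) r) ≫ x) = (r : Coh.Γtop X) • homHH M x := by
  obtain ⟨α, rfl⟩ : ∃ α : Ext (Coh.structureModule X) M 1, α.hom = x :=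
    Ext.homAddEquiv.surjective x
  rw [← hom_mk₀_comp, homHH_apply, homHH_apply, ext_scalar_comm, extToHH_comp]
  rfl

omit [HasExt.{u} X.Modules] in
lemma smulMod_unit_one (r : Γ(X, ⊤)) :
    (CurveEnd.smulMod (Coh.structureModule X) r).app ⊤ (1 : Γ(X, ⊤)) = r := by
  rw [CurveEnd.smulMod_app]
  exact (mul_one (X.presheaf.map (homOfLE (le_top : (⊤ : X.Opens) ≤ ⊤)).op r)).trans
    (ConcreteCategory.congr_hom (X.presheaf.map_id _) r)

end Groth.Agent.CurveDual15
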