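import Groth.Agent.CurveDual15.Main
import Groth.Agent.CurveCohLib.Euler
import Groth.Agent.Lib.CurveVanish
import Groth.Agent.Lib.Euler
import Groth.Agent.InvX.GenEpi
import Groth.Agent.KFlatLib.Scheme.LocalDevissage
import Groth.Agent.QCoh.Support

/-!
# Consequences of duality in degree one
-/

set_option autoImplicit false
set_option linter.style.haveILetI false
set_option linter.unusedSectionVars false
set_option backward.isDefEq.respectTransparency false
set_option backward.isDefEq.respectTransparency.types false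

universe u

open CategoryTheory CategoryTheory.Limits AlgebraicGeometry TopologicalSpace Opposite

attribute [local instance] HasDerivedCategory.standard

namespace Groth.Agent.CurveDual15

open Groth.Agent Groth.Agent.PnCoh.Finite

section H1

variable (k : Type u) [Field k] {X : Scheme.{u}} [X.Over (Spec (CommRingCat.of k))]
  [IsProper (X ↘ (Spec (CommRingCat.of k)))]

lemma mapLin_comp {M N P : X.Modules} (f : M ⟶ N) (g : N ⟶ P) (n : ℕ) (x : Coh.HH X M n) :
    mapLin (A := k) g n (mapLin (A := k) f n x) = mapLin (A := k) (f ≫ g) n x :=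
  map_map (Y := X.toPresheafedSpace.carrier) ((QCoh.toAbFunctor X).map_comp f g).symm n x

include k in
lemma subsingleton_HH_two (hdim : topologicalKrullDim X ≤ 1) {M : X.Modules} (hM : Coh.IsQCoh M) :
    Subsingleton (Coh.HH X M 2) := by
  haveI := CurveCohLib.isNoetherian_of_proper (k := k) (X := X)
  haveI : X.IsSeparated := ⟨by
    rw [terminal.hom_ext (terminal.from X) ((X ↘ (Spec (CommRingCat.of k))) ≫ terminal.from _)]
    infer_instance⟩
  exact Snapper.subsingleton_HH_of_dim_le (d := 1) (by exact_mod_cast hdim) hM (by omega)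

/-- `H¹` of the second term of a right exact sequence. -/
theorem surjective_h1_of_rightExact (hdim : topologicalKrullDim X ≤ 1) {M N Q : X.Modules}
    (hM : Coh.IsQCoh M) (hN : Coh.IsQCoh N) (hQ : Coh.IsQCoh Q) (f : M ⟶ N) (g : N ⟶ Q) [Epi g]
    (w : f ≫ g = 0) (hex : (ShortComplex.mk f g w).Exact) (hQ1 : Subsingleton (Coh.HH X Q 1)) :
    Function.Surjective (mapLin (A := k) f 1) := by
  let e := kernel.lift g f w
  haveI : Epi e := hex.epi_kernelLift
  have hI : Coh.IsQCoh (kernel g) := QCoh.isQCoh_kernel hN hQ g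
  have hS₁ : (ShortComplex.mk (kernel.ι g) g (kernel.condition g)).ShortExact :=
    { exact := ShortComplex.exact_kernel _ }
  have hS₂ : (ShortComplex.mk (kernel.ι e) e (kernel.condition e)).ShortExact :=
    { exact := ShortComplex.exact_kernel _ }
  haveI := subsingleton_HH_two k hdim (QCoh.isQCoh_kernel hM hI e)
  intro y
  obtain ⟨z, rfl⟩ := (CurveCohLib.ker_mapLin_g k hS₁ 1).le
    (LinearMap.mem_ker.2 (Subsingleton.elim (mapLin (A := k) g 1 y) 0))
  obtain ⟨x, rfl⟩ := (CurveCohLib.ker_deltaLin k hS₂ 1).le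
    (LinearMap.mem_ker.2 (Subsingleton.elim (deltaLin k hS₂ 1 z) 0))
  exact ⟨x, by rw [mapLin_comp, kernel.lift_ι]⟩

end H1

section Omega

variable (k : Type u) [Field k] {X : Scheme.{u}} [X.Over (Spec (CommRingCat.of k))]
  [IsProper (X ↘ (Spec (CommRingCat.of k)))] (hdim : topologicalKrullDim X ≤ 1)
  [DCoh.HasRpush (X ↘ (Spec (CommRingCat.of k)))]
  (h : DCoh.RpushPreservesQCoh (X ↘ (Spec (CommRingCat.of k))))
  [DCoh.HasShriek (X ↘ (Spec (CommRingCat.of k))) h]
  (OY : DCoh.DQCoh (Spec (CommRingCat.of k)))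
  (hOY : Nonempty (OY.obj ≅ DCoh.inD (Spec (CommRingCat.of k)) (Coh.structureModule (Spec (CommRingCat.of k)))))

local notation "ω" => DCoh.dualizingMod (X ↘ (Spec (CommRingCat.of k))) h OY 1

include hdim hOY in
/-- A nonzero endomorphism of the dualizing module is invertible, when `h⁰(O) = 1`. -/
theorem exists_inverse_of_ne_zero (h0 : Module.finrank k (Coh.HH X (Coh.structureModule X) 0) = 1)
    (ψ : ω ⟶ ω) (hψ : ψ ≠ 0) : ∃ χ : ω ⟶ ω, ψ ≫ χ = 𝟙 ω := by
  obtain ⟨σ, hbij, hfin, hle, -⟩ := exists_duality k h OY hOY hdim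
  haveI := hfin
  have hω := isQCoh_dualizingMod k h OY
  let D : (ω ⟶ ω) → Module.Dual k (Coh.HH X ω 1) := fun φ => σ.comp (mapLin (A := k) φ 1)
  have hD : Function.Injective D := (hbij ω hω).injective
  have hD0 : D 0 = 0 := LinearMap.ext fun x => by
    show σ (Sheaf.H.map ((QCoh.toAbFunctor X).map (0 : ω ⟶ ω)) 1 x) = 0
    rw [Functor.map_zero]
    show σ (((Sheaf.functorH _ 1).map (0 : Coh.toAb ω ⟶ Coh.toAb ω)).hom x) = 0
    rw [Functor.map_zero]
    exact map_zero σ
  let sc : k → (ω ⟶ ω) := fun c => CurveEnd.smulMod ω (Coh.toGlobal (X ↘ (Spec (CommRingCat.of k))) c)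
  have hsc : ∀ c, D (sc c) = c • σ := fun c => LinearMap.ext fun x => by
    show σ (Sheaf.H.map (Coh.smulAb ω (Coh.toGlobal (X ↘ (Spec (CommRingCat.of k))) c)) 1 x) = c • σ x
    exact map_smul σ c x
  have hσ : σ ≠ 0 := fun hσ0 => hψ (hD (by rw [hD0]; show σ.comp _ = 0; rw [hσ0, LinearMap.zero_comp]))
  have hone : Module.finrank k (Module.Dual k (Coh.HH X ω 1)) = 1 := by
    rw [Subspace.dual_finrank_eq]
    refine le_antisymm (h0 ▸ hle) (Nat.one_le_iff_ne_zero.2 fun hz => hσ ?_)
    haveI := Module.finrank_zero_iff.1 hz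
    exact LinearMap.ext fun x => by rw [Subsingleton.elim x 0, map_zero, map_zero]
  obtain ⟨c, hc⟩ := (finrank_eq_one_iff_of_nonzero' σ hσ).1 hone (D ψ)
  obtain rfl : sc c = ψ := hD ((hsc c).trans hc)
  have hc0 : c ≠ 0 := fun hc' => hψ (hD (by rw [hsc, hc', zero_smul, hD0]))
  have hmul : ∀ r r' : Γ(X, ⊤), CurveEnd.smulMod ω r ≫ CurveEnd.smulMod ω r' = CurveEnd.smulMod ω (r' * r) :=
    fun r r' => ((CurveEnd.scalar ω).map_mul r' r).symm
  refine ⟨sc c⁻¹, (hmul _ _).trans ?_⟩
  refine Eq.trans (congrArg (CurveEnd.smulMod ω) ?_) (CurveEnd.scalar ω).map_one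
  refine ((Coh.toGlobal (X ↘ (Spec (CommRingCat.of k)))).map_mul c⁻¹ c).symm.trans ?_
  rw [inv_mul_cancel₀ hc0]
  exact map_one _

include hdim hOY in
/-- A map out of the dualizing module, surjective on `H¹`, splits unless the target has no `H¹`. -/
theorem h1_zero_or_split (h0 : Module.finrank k (Coh.HH X (Coh.structureModule X) 0) = 1)
    {F : X.Modules} (hF : Coh.IsQCoh F) (f : ω ⟶ F) (hf : Function.Surjective (mapLin (A := k) f 1)) :
    Subsingleton (Coh.HH X F 1) ∨ ∃ r : F ⟶ ω, f ≫ r = 𝟙 ω := by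
  obtain ⟨σ, hbij, -, -, -⟩ := exists_duality k h OY hOY hdim
  by_cases hF1 : Subsingleton (Coh.HH X F 1)
  · exact Or.inl hF1
  refine Or.inr (by_contra fun hr => hF1 (subsingleton_of_forall_eq 0 fun y => ?_))
  haveI : Module.Free k (Coh.HH X F 1) := Module.Free.of_divisionRing k _
  haveI : Module.Projective k (Coh.HH X F 1) := Module.Projective.of_free
  refine (Module.forall_dual_apply_eq_zero_iff k y).1 fun g => by_contra fun hg => ?_
  obtain ⟨l, hl⟩ := (hbij F hF).surjective g
  have hψ : f ≫ l ≠ 0 := fun h0' => hg (by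
    obtain ⟨x, rfl⟩ := hf y
    rw [← hl]
    show σ (mapLin (A := k) l 1 (mapLin (A := k) f 1 x)) = 0
    rw [mapLin_comp, h0']
    show σ (((Sheaf.functorH _ 1).map ((QCoh.toAbFunctor X).map (0 : ω ⟶ ω))).hom x) = 0
    rw [Functor.map_zero, Functor.map_zero]
    exact map_zero σ)
  obtain ⟨χ, hχ⟩ := exists_inverse_of_ne_zero k hdim h OY hOY h0 (f ≫ l) hψ
  exact hr ⟨l ≫ χ, by rw [← Category.assoc, hχ]⟩

lemma exists_section_of_retraction {A B C : X.Modules} {f : A ⟶ B} {g : B ⟶ C} [Epi g] (w : f ≫ g = 0)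
    (hex : (ShortComplex.mk f g w).Exact) (r : B ⟶ A) (hr : f ≫ r = 𝟙 A) :
    ∃ i : C ⟶ B, i ≫ g = 𝟙 C := by
  refine ⟨hex.desc (𝟙 B - r ≫ f) (by
    show f ≫ (𝟙 B - r ≫ f) = 0
    rw [Preadditive.comp_sub, Category.comp_id, ← Category.assoc, hr, Category.id_comp, sub_self]), ?_⟩
  refine (cancel_epi g).1 ?_
  erw [hex.g_desc_assoc]
  rw [Preadditive.sub_comp, Category.id_comp, Category.assoc, w, comp_zero, sub_zero, Category.comp_id]

include hdim hOY in
/-- Global sections generate onto a punctual quotient without liftable parts. -/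
theorem generate_onto (h0 : Module.finrank k (Coh.HH X (Coh.structureModule X) 0) = 1)
    (F Q : X.Modules) (hF : Coh.IsCoh F) (hQ : Coh.IsCoh Q) (f : ω ⟶ F) (g : F ⟶ Q) [Epi g] (w : f ≫ g = 0)
    (hex : (ShortComplex.mk f g w).Exact) (hQ0 : topologicalKrullDim (CohB1.support Q) ≤ 0)
    (hQ2 : 2 ≤ Module.finrank k (Coh.HH X Q 0))
    (hno : ∀ (Q' : X.Modules) (i : Q' ⟶ F), Mono i → Mono (i ≫ g) → IsZero Q') :
    ∃ (ι : Type u) (p : (SheafOfModules.free ι : X.Modules) ⟶ F), Epi (p ≫ g) := by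
  haveI := CurveCohLib.isNoetherian_of_proper (k := k) (X := X)
  have hω := isQCoh_dualizingMod k h OY
  have hcl : ∀ x ∈ CohB1.support Q, IsClosed ({x} : Set X) := fun x hx =>
    closure_eq_iff_isClosed.1 (Euler.closure_eq_self_of_dim_le_zero
      (QCoh.isClosed_support_of_isFT hQ.1 hQ.2) hQ0 hx)
  have hfin := CurveCohLib.finite_of_closedPoints (QCoh.isClosed_support_of_isFT hQ.1 hQ.2) hcl
  have hQ1 : ∀ {Q' : X.Modules}, CohB1.support Q' ⊆ CohB1.support Q → Subsingleton (Coh.HH X Q' 1) :=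
    fun hsub => CurveVanish.subsingleton_HH_of_finite hfin hcl
      (fun x hx => not_not.1 fun hx' => hx (hsub hx')) 0
  haveI := CurveCohLib.finite_HH (k := k) hF 0
  haveI := CurveCohLib.finite_HH (k := k) hQ 0
  let e₀ : ∀ M : X.Modules, _ := fun M => Sheaf.H.equiv₀ (Coh.toAb M) (isTerminalTop (α := X.Opens))
  let b := Module.finBasis k (Coh.HH X F 0)
  let m := Module.finrank k (Coh.HH X F 0)
  let p₀ : FlatMod.freeMod X m ⟶ F := Sigma.desc fun i => InvX.ofSect (e₀ F (b i))
  let re : (SheafOfModules.free (ULift.{u} (Fin m)) : X.Modules) ⟶ FlatMod.freeMod X m :=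
    Sigma.desc fun i => Sigma.ι (fun _ : Fin m => Coh.structureModule X) i.down
  refine ⟨ULift.{u} (Fin m), re ≫ p₀, ?_⟩
  haveI : Epi re := ⟨fun {W} a c hac => Sigma.hom_ext _ _ fun i => by
    have := congrArg (fun φ => Sigma.ι (fun _ : ULift.{u} (Fin m) => Coh.structureModule X) ⟨i⟩ ≫ φ) hac
    simp only [re, ← Category.assoc] at this
    erw [Sigma.ι_desc] at this
    exact this⟩
  suffices Epi (p₀ ≫ g) by rw [Category.assoc]; infer_instance
  let q := cokernel.π (p₀ ≫ g)
  have hfree : Coh.IsQCoh (FlatMod.freeMod X m) :=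
    QCoh.isQCoh_of_isFinLocFree (KFlatLib.isFinLocFree_freeMod m)
  have hC : Coh.IsCoh (cokernel (p₀ ≫ g)) := QCoh.isCoh_cokernel hfree hQ _
  have hCsub : CohB1.support (cokernel (p₀ ≫ g)) ⊆ CohB1.support Q :=
    QCoh.support_of_epi hQ.1 hC.1 q
  refine Preadditive.epi_of_isZero_cokernel _ ?_
  by_contra hnz
  haveI := CurveCohLib.finite_HH (k := k) hC 0
  have hC0 : 1 ≤ Module.finrank k (Coh.HH X (cokernel (p₀ ≫ g)) 0) := Nat.one_le_iff_ne_zero.2 fun hz =>
    hnz (CurveCohLib.isZero_of_euler_eq_zero (k := k) hC (fun x hx => hcl x (hCsub hx))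
      (by rw [CurveCohLib.euler_eq_finrank_zero (k := k) hC (fun x hx => hcl x (hCsub hx)), hz]; rfl))
  -- every global section of `F` dies in the cokernel
  have hdead : mapLin (A := k) (g ≫ q) 0 = 0 := b.ext fun i => by
    refine (e₀ _).injective ?_
    rw [LinearMap.zero_apply, map_zero]
    refine (Sheaf.H.equiv₀_naturality isTerminalTop ((QCoh.toAbFunctor X).map (g ≫ q)) (b i)).symm.trans ?_
    have h1 : InvX.one (InvX.ofSect (e₀ F (b i))) = e₀ F (b i) := InvX.one_ofSect _
    have h2 : InvX.ofSect (e₀ F (b i)) ≫ g ≫ q = 0 := by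
      have h3 : Sigma.ι (fun _ : Fin m => Coh.structureModule X) i ≫ p₀ = InvX.ofSect (e₀ F (b i)) :=
        Sigma.ι_desc _ _
      rw [← h3, Category.assoc, ← Category.assoc p₀, cokernel.condition, comp_zero]
    refine (congrArg ((g ≫ q).app ⊤) h1.symm).trans ?_
    exact congrArg InvX.one h2
  have hF1 : Subsingleton (Coh.HH X F 1) := by
    rcases h1_zero_or_split k hdim h OY hOY h0 hF.1 f
      (surjective_h1_of_rightExact k hdim hω hF.1 hQ.1 f g w hex (hQ1 subset_rfl)) with h' | ⟨r, hr⟩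
    · exact h'
    · obtain ⟨i, hi⟩ := exists_section_of_retraction w hex r hr
      haveI : Mono (i ≫ g) := by rw [hi]; infer_instance
      haveI : Mono i := mono_of_mono i g
      have hQz := hno Q i inferInstance inferInstance
      rw [CurveCohLib.finrank_HH_zero_eq_zero_of_isZero (k := k) hQz] at hQ2
      omega
  let F' := kernel (g ≫ q)
  let Q' := kernel q
  let f' : ω ⟶ F' := kernel.lift (g ≫ q) f (by rw [← Category.assoc, w, zero_comp])
  let g' : F' ⟶ Q' := kernel.lift q (kernel.ι (g ≫ q) ≫ g) (by rw [Category.assoc]; exact kernel.condition _)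
  have hQ'c : Coh.IsCoh Q' := QCoh.isCoh_kernel hQ hC q
  have hF'q : Coh.IsQCoh F' := QCoh.isQCoh_kernel hF.1 hC.1 _
  have w' : f' ≫ g' = 0 := by
    rw [← cancel_mono (kernel.ι q), Category.assoc, kernel.lift_ι, ← Category.assoc, kernel.lift_ι, w, zero_comp]
  haveI : Epi g' := by
    rw [epi_iff_surjective_up_to_refinements]
    intro A a
    obtain ⟨A', π, hπ, y, hy⟩ := surjective_up_to_refinements_of_epi g (a ≫ kernel.ι q)
    refine ⟨A', π, hπ, kernel.lift (g ≫ q) y (by
      rw [← Category.assoc, ← hy, Category.assoc, Category.assoc, kernel.condition, comp_zero, comp_zero]), ?_⟩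
    rw [← cancel_mono (kernel.ι q), Category.assoc, Category.assoc, kernel.lift_ι, ← Category.assoc _ _ g,
      kernel.lift_ι, hy]
  have hex' : (ShortComplex.mk f' g' w').Exact := by
    rw [ShortComplex.exact_iff_exact_up_to_refinements]
    intro A x hx
    obtain ⟨A', π, hπ, y, hy⟩ := hex.exact_up_to_refinements (x ≫ kernel.ι (g ≫ q)) (by
      have h' : x ≫ g' = 0 := hx
      have h'' := congrArg (· ≫ kernel.ι q) h'
      rw [zero_comp, Category.assoc] at h''
      erw [kernel.lift_ι] at h''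
      exact (Category.assoc _ _ _).trans h'')
    refine ⟨A', π, hπ, y, ?_⟩
    show π ≫ x = y ≫ f'
    rw [← cancel_mono (kernel.ι (g ≫ q)), Category.assoc, Category.assoc, kernel.lift_ι]
    exact hy
  have hsur : Function.Surjective (mapLin (A := k) f' 1) :=
    surjective_h1_of_rightExact k hdim hω hF'q hQ'c.1 f' g' w' hex'
      (hQ1 (QCoh.mem_support_of_mono hQ'c.1 hQ.1 (kernel.ι q)))
  -- the connecting map identifies the sections of the cokernel with `H¹` of the preimage
  have hS : (ShortComplex.mk (kernel.ι (g ≫ q)) (g ≫ q) (kernel.condition _)).ShortExact :=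
    { exact := ShortComplex.exact_kernel _ }
  have hδinj : Function.Injective (deltaLin k hS 0) := by
    rw [← LinearMap.ker_eq_bot, CurveCohLib.ker_deltaLin k hS 0]
    rw [LinearMap.range_eq_bot]
    exact hdead
  obtain ⟨σ, -, hωfin, hle, -⟩ := exists_duality k h OY hOY hdim
  haveI := hωfin
  haveI : Module.Finite k (Coh.HH X F' 1) := Module.Finite.of_surjective _ hsur
  have hC1 : Module.finrank k (Coh.HH X (cokernel (p₀ ≫ g)) 0) ≤ 1 :=
    (LinearMap.finrank_le_finrank_of_injective hδinj).trans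
      ((LinearMap.finrank_le_finrank_of_surjective hsur).trans (h0 ▸ hle))
  have hSQ : (ShortComplex.mk (kernel.ι q) q (kernel.condition q)).ShortExact :=
    { exact := ShortComplex.exact_kernel _ }
  have hadd := CurveCohLib.euler_additive (k := k) hSQ hQ'c hQ hC
  dsimp only [] at hadd
  rw [CurveCohLib.euler_eq_finrank_zero (k := k) hQ hcl,
    CurveCohLib.euler_eq_finrank_zero (k := k) hQ'c
      (fun x hx => hcl x (QCoh.mem_support_of_mono hQ'c.1 hQ.1 (kernel.ι q) hx)),
    CurveCohLib.euler_eq_finrank_zero (k := k) hC (fun x hx => hcl x (hCsub hx))] at hadd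
  rcases h1_zero_or_split k hdim h OY hOY h0 hF'q f' hsur with h' | ⟨r, hr⟩
  · haveI := h'
    haveI : Subsingleton (Coh.HH X (cokernel (p₀ ≫ g)) 0) := hδinj.subsingleton
    rw [Module.finrank_zero_of_subsingleton] at hC0
    omega
  · obtain ⟨i, hi⟩ := exists_section_of_retraction w' hex' r hr
    have hi' : (i ≫ kernel.ι (g ≫ q)) ≫ g = kernel.ι q := by
      have h3 := congrArg (· ≫ kernel.ι q) hi
      simp only [Category.assoc, Category.id_comp] at h3 ⊢
      erw [kernel.lift_ι] at h3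
      exact h3
    haveI : Mono ((i ≫ kernel.ι (g ≫ q)) ≫ g) := by rw [hi']; infer_instance
    have hz := hno Q' (i ≫ kernel.ι (g ≫ q)) (mono_of_mono _ g) inferInstance
    rw [CurveCohLib.finrank_HH_zero_eq_zero_of_isZero (k := k) hz] at hadd
    omega

end Omega

end Groth.Agent.CurveDual15
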