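import Groth.Agent.CurveDual15.Pairing
import Groth.Agent.CurveDual15.Ext
import Groth.Agent.KFlatLib.Scheme.RightAdjBound
import Groth.Agent.PnCoh.Finite.HHLin
import Groth.Agent.PnCoh.Chow.Relative
import Groth.Agent.Snapper.DimVanish
import Groth.Agent.QCoh.DevissageP
import Groth.Agent.CurveCohLib.Proper
import Groth.Prelude.Def_Curv2

/-!
# Duality in degree one for proper schemes of dimension at most one over a field

`ω = DCoh.dualizingMod f h OY 1` carries a trace `σ : H¹(X, ω) → k` such that `φ ↦ σ ∘ H¹(φ)` is a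
bijection `Hom(F, ω) ≅ H¹(X, F)^*` for quasi-coherent `F`; moreover `h¹(ω) ≤ h⁰(O_X)`, with equality
when `H⁰(f^! O) = 0`.
-/

set_option autoImplicit false
set_option linter.style.haveILetI false
set_option linter.unusedSectionVars false
set_option backward.isDefEq.respectTransparency false
set_option backward.isDefEq.respectTransparency.types false

universe u

open CategoryTheory CategoryTheory.Limits CategoryTheory.Pretriangulated AlgebraicGeometry
  TopologicalSpace Opposite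

attribute [local instance] HasDerivedCategory.standard

namespace Groth.Agent.CurveDual15

open Groth.Agent

/-- Endomorphisms of the structure sheaf are determined by the value at `1`. -/
lemma unit_hom_ext {X : Scheme.{u}} {M : X.Modules} {a b : Coh.structureModule X ⟶ M}
    (h : a.app ⊤ (1 : Γ(X, ⊤)) = b.app ⊤ (1 : Γ(X, ⊤))) : a = b :=
  (KFlatLib.topEquiv M).injective h

lemma isQCohD_inD_shift {X : Scheme.{u}} {M : X.Modules} (hM : Coh.IsQCoh M) (n : ℤ) :
    DCoh.IsQCohD ((DCoh.inD X M)⟦n⟧) := fun i => by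
  let H := DerivedCategory.homologyFunctor X.Modules
  let e : DCoh.HD ((DCoh.inD X M)⟦n⟧) i ≅ DCoh.HD (DCoh.inD X M) (n + i) :=
    (((H 0).shiftIso n i (n + i) rfl).app _)
  refine KFlatLib.isQCoh_of_iso e.symm ?_
  by_cases h : n + i = 0
  · rw [h]
    exact KFlatLib.isQCoh_of_iso (KFlatLib.h0Single M).symm hM
  · refine KFlatLib.isQCoh_of_isZero ?_
    rcases lt_or_gt_of_ne h with h | h
    · exact DerivedCategory.isZero_of_isGE _ 0 _ h
    · exact DerivedCategory.isZero_of_isLE _ 0 _ h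

section

variable (k : Type u) [Field k] {X : Scheme.{u}} [X.Over (Spec (CommRingCat.of k))]
  [IsProper (X ↘ (Spec (CommRingCat.of k)))]

local notation "𝕊" => Spec (CommRingCat.of k)
local notation "𝕡" => (X ↘ (Spec (CommRingCat.of k)))

lemma subsingleton_base : Subsingleton (Spec (CommRingCat.of k)) :=
  inferInstanceAs (Subsingleton (PrimeSpectrum k))

lemma isField_base : IsField Γ(𝕊, ⊤) :=
  (Scheme.ΓSpecIso (CommRingCat.of k)).commRingCatIsoToRingEquiv.toMulEquiv.isField (Field.toIsField k)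

lemma rpushVanish [HasInjectiveResolutions X.Modules] (hdim : topologicalKrullDim X ≤ 1) :
    KFlatLib.RpushVanish 𝕡 ⊤ 2 := by
  haveI := CurveCohLib.isNoetherian_of_proper (k := k) (X := X)
  haveI := subsingleton_base k
  haveI : QuasiSeparated 𝕡 := inferInstance
  haveI : X.IsSeparated := ⟨by
    rw [terminal.hom_ext (terminal.from X) (𝕡 ≫ terminal.from _)]
    infer_instance⟩
  intro M hM p hp
  refine Functor.map_isZero _ ?_
  obtain ⟨q, rfl⟩ := Nat.exists_eq_add_of_le (show 1 ≤ p by omega)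
  rw [Nat.add_comm]
  obtain ⟨e⟩ := QCoh.nonempty_Rpush_iso 𝕡 M q
  let g := (Scheme.Modules.pushforward 𝕡).map (QCoh.godπ M q)
  haveI : Epi g := by
    haveI : (QCoh.toAbFunctor 𝕊).Faithful :=
      inferInstanceAs (SheafOfModules.toSheaf _).Faithful
    haveI : Epi ((QCoh.toAbFunctor 𝕊).map g) := by
      refine (TopCat.Sheaf.isLocallySurjective_iff_epi _).1
        ((TopCat.Presheaf.isLocallySurjective_iff _).2 fun U t y hy => ?_)
      obtain rfl : U = ⊤ := (opens_eq_bot_or_top U).resolve_left fun h => by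
        rw [h] at hy; exact hy.elim
      refine ⟨⊤, fun z hz => hz, ?_, trivial⟩
      have hsub : Subsingleton (CohTop.HU (X := X.toPresheafedSpace.carrier) (QCoh.abSheaf M) (q + 1)
          (𝕡 ⁻¹ᵁ ⊤)) :=
        PnCoh.Chow.subsingleton_HU_top _ _
          (Snapper.subsingleton_HH_of_dim_le (d := 1) (by exact_mod_cast hdim) hM (by omega))
      exact QCoh.godπ_app_surjective hsub _
    exact (QCoh.toAbFunctor 𝕊).epi_of_epi_map inferInstance
  exact (isZero_cokernel_of_epi g).of_iso e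

variable [DCoh.HasRpush (X ↘ (Spec (CommRingCat.of k)))]
  (h : DCoh.RpushPreservesQCoh (X ↘ (Spec (CommRingCat.of k))))
  [DCoh.HasShriek (X ↘ (Spec (CommRingCat.of k))) h]
  (OY : DCoh.DQCoh (Spec (CommRingCat.of k)))
  (hOY : Nonempty (OY.obj ≅ DCoh.inD (Spec (CommRingCat.of k)) (Coh.structureModule (Spec (CommRingCat.of k)))))

/-- The dualizing module. -/
local notation "ω" => DCoh.dualizingMod (X ↘ (Spec (CommRingCat.of k))) h OY 1

lemma isQCoh_dualizingMod : Coh.IsQCoh ω :=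
  ((DCoh.shriek 𝕡 h).obj OY).property _

include hOY in
/-- The dualizing complex lives in degrees at least `-1`. -/
theorem isGE_dualizingCx (hdim : topologicalKrullDim X ≤ 1) :
    (DCoh.dualizingCx 𝕡 h OY).IsGE (-1) := by
  haveI := KFlatLib.hasInjectiveResolutions_modules (X := X)
  haveI := CurveCohLib.isNoetherian_of_proper (k := k) (X := X)
  obtain ⟨eO⟩ := hOY
  rw [DerivedCategory.isGE_iff]
  intro i hi
  refine KFlatLib.isZero_hd_of_orth ((DCoh.shriek 𝕡 h).obj OY).property (-2) (fun A hA hle φ => ?_) i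
    (by omega)
  haveI := hle
  haveI : ((DCoh.Rpush 𝕡).obj A).IsLE (-1) := (DerivedCategory.isLE_iff _ _).2 fun j hj =>
    KFlatLib.isZero_of_isZero_restrict _ fun y =>
      ⟨⊤, trivial, KFlatLib.isZero_restrict_hd_rpush 𝕡 hA (-2) ⊤ 2 (rpushVanish k hdim) j (by omega)⟩
  haveI : DerivedCategory.IsGE OY.obj 0 :=
    DerivedCategory.TStructure.t.isGE_of_iso eO.symm 0
  let ψ : (⟨A, hA⟩ : DCoh.DQCoh X) ⟶ (DCoh.shriek 𝕡 h).obj OY := ObjectProperty.homMk φ
  have hψ : ψ = 0 := ((DCoh.shriekAdj 𝕡 h).homEquiv ⟨A, hA⟩ OY).symm.injective <|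
    ObjectProperty.hom_ext _ <|
      (DerivedCategory.TStructure.t.zero_of_isLE_of_isGE _ (-1) 0 (by omega) ‹_› ‹_›).trans
        (DerivedCategory.TStructure.t.zero_of_isLE_of_isGE _ (-1) 0 (by omega) ‹_› ‹_›).symm
  exact congrArg (fun t => t.hom) hψ

include hOY in
/-- `ω[1] → 𝕡^! O` with cone in degrees `≥ 0`. -/
theorem exists_truncation (hdim : topologicalKrullDim X ≤ 1) :
    ∃ j : (DCoh.inD X ω)⟦(1 : ℤ)⟧ ⟶ DCoh.dualizingCx 𝕡 h OY,
      (∀ P : DCoh.D X, P.IsLE (-1) →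
        Function.Bijective (fun y : P ⟶ (DCoh.inD X ω)⟦(1 : ℤ)⟧ => y ≫ j)) ∧
      (∀ P : DCoh.D X, P.IsLE 0 →
        Function.Injective (fun y : P ⟶ (DCoh.inD X ω)⟦(1 : ℤ)⟧ => y ≫ j)) ∧
      (IsZero (DCoh.HD (DCoh.dualizingCx 𝕡 h OY) 0) → ∀ P : DCoh.D X, P.IsLE 0 →
        Function.Bijective (fun y : P ⟶ (DCoh.inD X ω)⟦(1 : ℤ)⟧ => y ≫ j)) := by
  haveI := isGE_dualizingCx k h OY hOY hdim
  let T := DCoh.dualizingCx 𝕡 h OY
  let H := DerivedCategory.homologyFunctor X.Modules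
  obtain ⟨A, B, hA, hB, a, b, c, hT⟩ := DerivedCategory.TStructure.t.exists_triangle T (-1) 0 rfl
  haveI : A.IsLE (-1) := ⟨hA⟩
  haveI : B.IsGE 0 := ⟨hB⟩
  haveI : A.IsGE (-1) := by
    rw [DerivedCategory.isGE_iff]
    intro i hi
    haveI : IsIso ((H i).map a) := isIso_h_mor₁ hT i (DerivedCategory.isZero_of_isGE B 0 _ (by omega))
      (DerivedCategory.isZero_of_isGE B 0 i (by omega))
    exact (DerivedCategory.isZero_of_isGE T (-1) i hi).of_iso (asIso ((H i).map a))
  haveI := shift_isLE A (-1) (-1) 0 (by omega)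
  haveI := shift_isGE A (-1) (-1) 0 (by omega)
  obtain ⟨M, ⟨eM⟩⟩ := DerivedCategory.exists_iso_singleFunctor_obj_of_isGE_of_isLE (A⟦(-1 : ℤ)⟧) 0
  haveI : IsIso ((H (-1)).map a) := isIso_h_mor₁ hT (-1) (DerivedCategory.isZero_of_isGE B 0 _ (by omega))
    (DerivedCategory.isZero_of_isGE B 0 _ (by omega))
  let eω : ω ≅ M :=
    (asIso ((H (-1)).map a)).symm ≪≫ (((H 0).shiftIso (-1 : ℤ) 0 (-1) (by omega)).app A).symm ≪≫
      (H 0).mapIso eM ≪≫ h0sg M
  let eA : (DCoh.inD X ω)⟦(1 : ℤ)⟧ ≅ A :=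
    (shiftFunctor (DCoh.D X) (1 : ℤ)).mapIso
        ((DerivedCategory.singleFunctor X.Modules 0).mapIso eω ≪≫ eM.symm) ≪≫
      (shiftFunctorCompIsoId (DCoh.D X) (-1 : ℤ) 1 (by omega)).app A
  haveI := shift_isGE B 0 (-1) 1 (by omega)
  have hinj : ∀ P : DCoh.D X, P.IsLE 0 →
      Function.Injective (fun y : P ⟶ (DCoh.inD X ω)⟦(1 : ℤ)⟧ => y ≫ eA.hom ≫ a) := by
    intro P hP y y' hy
    haveI := hP
    have h0' : ((y - y') ≫ eA.hom) ≫ a = 0 := by
      rw [Category.assoc, Preadditive.sub_comp, sub_eq_zero]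
      exact hy
    obtain ⟨g, hg⟩ := Triangle.coyoneda_exact₂ _ (inv_rot_of_distTriang _ hT) ((y - y') ≫ eA.hom) h0'
    rw [← sub_eq_zero, ← cancel_mono eA.hom, zero_comp, hg,
      show g = 0 from DerivedCategory.TStructure.t.zero (X := P) (Y := B⟦(-1 : ℤ)⟧) g 0 1]
    exact zero_comp
  refine ⟨eA.hom ≫ a, fun P hP => ?_, hinj, fun hH0 P hP => ⟨hinj P hP, fun z => ?_⟩⟩
  · haveI := hP
    haveI : P.IsLE 0 := DerivedCategory.TStructure.t.isLE_of_le P (-1) 0 (by omega)
    refine ⟨hinj P inferInstance, fun z => ?_⟩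
    obtain ⟨g, hg⟩ := Triangle.coyoneda_exact₂ _ hT z
      (DerivedCategory.TStructure.t.zero (X := P) (Y := B) _ (-1) 0)
    exact ⟨g ≫ eA.inv, by simp only [Category.assoc, Iso.inv_hom_id_assoc]; exact hg.symm⟩
  · haveI := hP
    haveI : B.IsGE 1 := by
      rw [DerivedCategory.isGE_iff]
      intro i hi
      rcases lt_or_eq_of_le (show i ≤ 0 by omega) with hlt | rfl
      · exact DerivedCategory.isZero_of_isGE B 0 i hlt
      · haveI : IsIso ((H 0).map b) := isIso_h_mor₂ hT 0 (DerivedCategory.isZero_of_isLE A (-1) 0 (by omega))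
          (DerivedCategory.isZero_of_isLE A (-1) _ (by omega))
        exact hH0.of_iso (asIso ((H 0).map b)).symm
    obtain ⟨g, hg⟩ := Triangle.coyoneda_exact₂ _ hT z
      (DerivedCategory.TStructure.t.zero (X := P) (Y := B) _ 0 1)
    exact ⟨g ≫ eA.inv, by simp only [Category.assoc, Iso.inv_hom_id_assoc]; exact hg.symm⟩

/-- The value of an endomorphism of `O_Y`. -/
noncomputable def val : (Coh.structureModule 𝕊 ⟶ Coh.structureModule 𝕊) →+ k :=
  AddMonoidHom.mk' (fun a => (Scheme.ΓSpecIso (CommRingCat.of k)).hom (a.app ⊤ (1 : Γ(𝕊, ⊤))))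
    fun a b => by
      rw [Scheme.Modules.Hom.add_app]
      exact map_add (Scheme.ΓSpecIso (CommRingCat.of k)).hom.hom _ _

lemma val_bijective : Function.Bijective (val k) := by
  refine ⟨fun a b hab => unit_hom_ext ((Scheme.ΓSpecIso (CommRingCat.of k)).commRingCatIsoToRingEquiv.injective hab),
    fun c => ⟨CurveEnd.smulMod _ ((Scheme.ΓSpecIso (CommRingCat.of k)).inv c), ?_⟩⟩
  show (Scheme.ΓSpecIso (CommRingCat.of k)).hom _ = c
  rw [smulMod_unit_one]
  exact (Scheme.ΓSpecIso (CommRingCat.of k)).inv_hom_id_apply c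

lemma val_comp (a t : Coh.structureModule 𝕊 ⟶ Coh.structureModule 𝕊) :
    val k (a ≫ t) = val k a * val k t := by
  show (Scheme.ΓSpecIso (CommRingCat.of k)).hom (t.app ⊤ (a.app ⊤ (1 : Γ(𝕊, ⊤)))) = _
  have h1 : t.app ⊤ (a.app ⊤ (1 : Γ(𝕊, ⊤))) =
      (id (a.app ⊤ (1 : Γ(𝕊, ⊤))) : Γ(𝕊, ⊤)) * (id (t.app ⊤ (1 : Γ(𝕊, ⊤))) : Γ(𝕊, ⊤)) := by
    refine Eq.trans (congrArg (t.app ⊤) (mul_one (id (a.app ⊤ (1 : Γ(𝕊, ⊤))) : Γ(𝕊, ⊤))).symm) ?_
    exact t.app_smul _ _
  rw [h1]
  exact map_mul (Scheme.ΓSpecIso (CommRingCat.of k)).hom.hom _ _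

lemma scalar_rel (c : k) :
    (CurveEnd.smulMod (Coh.structureModule X) (Coh.toGlobal 𝕡 c)).app ⊤ (1 : Γ(X, ⊤)) =
      (𝕡).appTop ((CurveEnd.smulMod (Coh.structureModule 𝕊)
        ((Scheme.ΓSpecIso (CommRingCat.of k)).inv c)).app ⊤ (1 : Γ(𝕊, ⊤))) := by
  rw [smulMod_unit_one, smulMod_unit_one]
  rfl

lemma rel_eq {a : Coh.structureModule 𝕊 ⟶ Coh.structureModule 𝕊}
    {b : Coh.structureModule X ⟶ Coh.structureModule X}
    (hab : b.app ⊤ (1 : Γ(X, ⊤)) = (𝕡).appTop (a.app ⊤ (1 : Γ(𝕊, ⊤)))) :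
    b = CurveEnd.smulMod (Coh.structureModule X) (Coh.toGlobal 𝕡 (val k a)) := by
  refine unit_hom_ext (hab.trans ?_)
  rw [smulMod_unit_one]
  exact congrArg (𝕡).appTop ((Scheme.ΓSpecIso (CommRingCat.of k)).hom_inv_id_apply _).symm

set_option maxHeartbeats 1600000 in
include hOY in
/-- The trace of the dualizing module, and duality in degree one. -/
theorem exists_duality (hdim : topologicalKrullDim X ≤ 1) :
    ∃ σ : Coh.HH X ω 1 →ₗ[k] k,
      (∀ F : X.Modules, Coh.IsQCoh F → Function.Bijective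
        (fun φ : F ⟶ ω => σ.comp (PnCoh.Finite.mapLin (A := k) φ 1))) ∧
      Module.Finite k (Coh.HH X ω 1) ∧
      Module.finrank k (Coh.HH X ω 1) ≤ Module.finrank k (Coh.HH X (Coh.structureModule X) 0) ∧
      (IsZero (DCoh.HD (DCoh.dualizingCx 𝕡 h OY) 0) →
        Module.finrank k (Coh.HH X ω 1) = Module.finrank k (Coh.HH X (Coh.structureModule X) 0)) := by
  haveI := CurveCohLib.isNoetherian_of_proper (k := k) (X := X)
  haveI := subsingleton_base k
  obtain ⟨τ, hτ, hpair⟩ := exists_trace 𝕡 h (isField_base k) OY hOY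
  obtain ⟨j, hj, hjinj, hj0⟩ := exists_truncation k h OY hOY hdim
  let O := DCoh.inD X (Coh.structureModule X)
  let S := DerivedCategory.singleFunctor X.Modules 0
  let σ₀ : Coh.HH X ω 1 →+ k :=
    AddMonoidHom.mk' (fun η => val k (τ ((homHH ω).symm η ≫ j))) fun η η' => by
      rw [map_add, Preadditive.add_comp, map_add, map_add]
  have hσsmul : ∀ (r : Γ(X, ⊤)) (η : Coh.HH X ω 1),
      (homHH ω).symm ((r : Coh.Γtop X) • η) =
        S.map (CurveEnd.smulMod (Coh.structureModule X) r) ≫ (homHH ω).symm η := fun r η => by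
    refine (homHH ω).injective ?_
    rw [AddEquiv.apply_symm_apply, homHH_smul, AddEquiv.apply_symm_apply]
  let σ : Coh.HH X ω 1 →ₗ[k] k :=
    { toFun := σ₀
      map_add' := map_add σ₀
      map_smul' := fun c η => by
        show val k (τ ((homHH ω).symm ((Coh.toGlobal 𝕡 c : Coh.Γtop X) • η) ≫ j)) = c * _
        rw [hσsmul, Category.assoc, hτ _ _ (scalar_rel k c), val_comp]
        refine congrArg (· * _) ?_
        show (Scheme.ΓSpecIso (CommRingCat.of k)).hom _ = c
        rw [smulMod_unit_one]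
        exact (Scheme.ΓSpecIso (CommRingCat.of k)).inv_hom_id_apply c }
  have hσ : ∀ x : O ⟶ (DCoh.inD X ω)⟦(1 : ℤ)⟧, σ (homHH ω x) = val k (τ (x ≫ j)) := fun x => by
    show val k (τ ((homHH ω).symm (homHH ω x) ≫ j)) = _
    rw [AddEquiv.symm_apply_apply]
  haveI hOle : O.IsLE 0 := inferInstance
  refine ⟨σ, fun F hF => ?_, ?_⟩
  · haveI : ((DCoh.inD X F)⟦(1 : ℤ)⟧).IsLE (-1) := shift_isLE _ 0 1 (-1) (by omega)
    obtain ⟨hsep, hsurj⟩ := hpair _ (isQCohD_inD_shift hF 1)
    have hval : ∀ (φ : F ⟶ ω) (x : O ⟶ (DCoh.inD X F)⟦(1 : ℤ)⟧),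
        σ (PnCoh.Finite.mapLin (A := k) φ 1 (homHH F x)) = val k (τ (x ≫ (S.map φ)⟦(1 : ℤ)⟧' ≫ j)) :=
      fun φ x => by
        show σ (Sheaf.H.map ((QCoh.toAbFunctor X).map φ) 1 (homHH F x)) = _
        rw [← homHH_comp, hσ, Category.assoc]
    have hbij : Function.Bijective (fun φ : F ⟶ ω => (S.map φ)⟦(1 : ℤ)⟧' ≫ j) :=
      (hj _ inferInstance).comp ((Functor.FullyFaithful.ofFullyFaithful
        (DerivedCategory.singleFunctor X.Modules 0 ⋙ shiftFunctor (DCoh.D X) (1 : ℤ))).map_bijective F ω)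
    refine ⟨fun φ φ' he => hbij.injective (sub_eq_zero.1 (hsep _ fun x => ?_)), fun g => ?_⟩
    · refine (val_bijective k).injective ?_
      rw [Preadditive.comp_sub, map_sub, map_sub, map_zero, sub_eq_zero, ← hval, ← hval]
      exact LinearMap.congr_fun he (homHH F x)
    · let θ : (O ⟶ (DCoh.inD X F)⟦(1 : ℤ)⟧) → (Coh.structureModule 𝕊 ⟶ Coh.structureModule 𝕊) :=
        fun x => (Equiv.ofBijective _ (val_bijective k)).symm (g (homHH F x))
      have hθ : ∀ x, val k (θ x) = g (homHH F x) := fun x =>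
        (Equiv.ofBijective _ (val_bijective k)).apply_symm_apply _
      obtain ⟨y, hy⟩ := hsurj θ
        (fun x x' => (val_bijective k).injective (by rw [map_add, hθ, hθ, hθ, map_add, map_add]))
        (fun a b hab x => (val_bijective k).injective (by
          rw [val_comp, hθ, hθ, rel_eq k hab, homHH_smul]
          exact (map_smul g (val k a) (homHH F x)).trans (smul_eq_mul _ _)))
      obtain ⟨φ, rfl⟩ := hbij.surjective y
      refine ⟨φ, LinearMap.ext fun η => ?_⟩
      obtain ⟨x, rfl⟩ := (homHH F).surjective η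
      rw [LinearMap.comp_apply, hval, hy, hθ]
  have hO : DCoh.IsQCohD O := fun i => by
    refine KFlatLib.isQCoh_of_iso ((DerivedCategory.homologyFunctor X.Modules i).mapIso
      ((shiftFunctorZero (DCoh.D X) ℤ).app O)) ?_
    exact isQCohD_inD_shift (QCoh.isQCoh_structureModule (X := X)) 0 i
  obtain ⟨hsep, hsurj⟩ := hpair O hO
  let e₀ := Sheaf.H.equiv₀ (Coh.toAb (Coh.structureModule X)) (isTerminalTop (α := X.Opens))
  have he₀ : ∀ (c : k) x, (id (e₀ (c • x)) : Γ(X, ⊤)) = (id (Coh.toGlobal 𝕡 c) : Γ(X, ⊤)) * (id (e₀ x) : Γ(X, ⊤)) := fun c x => by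
    refine (Sheaf.H.equiv₀_naturality (isTerminalTop (α := X.Opens))
      (Coh.smulAb (Coh.structureModule X) (Coh.toGlobal 𝕡 c)) x).symm.trans ?_
    show (id (Coh.resTop X (op ⊤) (Coh.toGlobal 𝕡 c)) : Γ(X, ⊤)) * (id (e₀ x) : Γ(X, ⊤)) = _
    exact congrArg (· * (id (e₀ x) : Γ(X, ⊤))) (ConcreteCategory.congr_hom (X.presheaf.map_id _) _)
  let Λ : Coh.HH X ω 1 →ₗ[k] Module.Dual k (Coh.HH X (Coh.structureModule X) 0) :=
    { toFun := fun η =>
        { toFun := fun x => σ ((id (e₀ x) : Coh.Γtop X) • η)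
          map_add' := fun x y => by rw [map_add e₀]; exact (congrArg σ (add_smul _ _ _)).trans (map_add σ _ _)
          map_smul' := fun c x => by
            refine (congrArg (fun r : Γ(X, ⊤) => σ ((r : Coh.Γtop X) • η)) (he₀ c x)).trans ?_
            exact (congrArg σ (mul_smul (Coh.toGlobal 𝕡 c : Coh.Γtop X) (id (e₀ x) : Coh.Γtop X) η)).trans (map_smul σ c _) }
      map_add' := fun η η' => LinearMap.ext fun x =>
        (congrArg σ (smul_add _ _ _)).trans (map_add σ _ _)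
      map_smul' := fun c η => LinearMap.ext fun x => by
        show σ ((id (e₀ x) : Coh.Γtop X) • (Coh.toGlobal 𝕡 c : Coh.Γtop X) • η) = c • σ _
        refine Eq.trans (congrArg σ ?_) (map_smul σ c _)
        refine (mul_smul (id (e₀ x) : Coh.Γtop X) _ η).symm.trans ?_
        refine Eq.trans ?_ (mul_smul (Coh.toGlobal 𝕡 c : Coh.Γtop X) _ η)
        exact congrArg (fun r : Γ(X, ⊤) => (r : Coh.Γtop X) • η)
          (mul_comm (id (e₀ x) : Γ(X, ⊤)) (id (Coh.toGlobal 𝕡 c) : Γ(X, ⊤))) }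
  have hΛ : ∀ (x : O ⟶ (DCoh.inD X ω)⟦(1 : ℤ)⟧) (y : Coh.HH X (Coh.structureModule X) 0),
      Λ (homHH ω x) y = val k (τ (S.map (CurveEnd.smulMod (Coh.structureModule X) (e₀ y)) ≫ x ≫ j)) :=
    fun x y => by
      show σ ((id (e₀ y) : Coh.Γtop X) • homHH ω x) = _
      rw [← homHH_smul, hσ, Category.assoc]
      rfl
  have hb : ∀ b : O ⟶ O, ∃ y, b = S.map (CurveEnd.smulMod (Coh.structureModule X) (e₀ y)) := fun b => by
    obtain ⟨b₀, rfl⟩ := (DerivedCategory.singleFunctor X.Modules 0).map_surjective b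
    refine ⟨e₀.symm (b₀.app ⊤ (1 : Γ(X, ⊤))), congrArg _ (unit_hom_ext ?_)⟩
    rw [smulMod_unit_one]
    exact (e₀.apply_symm_apply _).symm
  have hΛinj : Function.Injective Λ := (injective_iff_map_eq_zero Λ).2 fun η hη => by
    obtain ⟨x, rfl⟩ := (homHH ω).surjective η
    have hz : x ≫ j = 0 := hsep _ fun b => by
      obtain ⟨y, rfl⟩ := hb b
      exact (val_bijective k).injective ((hΛ x y).symm.trans
        ((LinearMap.congr_fun hη y).trans (map_zero (val k)).symm))
    rw [hjinj O hOle (hz.trans zero_comp.symm : x ≫ j = 0 ≫ j), map_zero]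
  haveI : Module.Finite k (Coh.HH X (Coh.structureModule X) 0) :=
    CurveCohLib.finite_HH (k := k) (QCoh.isCoh_structureModule' (X := X)) 0
  haveI : Module.Finite k (Coh.HH X ω 1) := Module.Finite.of_injective Λ hΛinj
  refine ⟨inferInstance, (LinearMap.finrank_le_finrank_of_injective hΛinj).trans
    Subspace.dual_finrank_eq.le, fun hH0 => ?_⟩
  have hΛsurj : Function.Surjective Λ := fun g => by
    let ev : (O ⟶ O) → k := fun b =>
      g (e₀.symm ((Functor.preimage S b).app ⊤ (1 : Γ(X, ⊤))))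
    have hev : ∀ b₀ : Coh.structureModule X ⟶ Coh.structureModule X,
        ev (S.map b₀) = g (e₀.symm (b₀.app ⊤ (1 : Γ(X, ⊤)))) := fun b₀ => by
      show g (e₀.symm ((Functor.preimage S (S.map b₀)).app ⊤ (1 : Γ(X, ⊤)))) = _
      rw [S.preimage_map]
    let θ : (O ⟶ O) → (Coh.structureModule 𝕊 ⟶ Coh.structureModule 𝕊) :=
      fun b => (Equiv.ofBijective _ (val_bijective k)).symm (ev b)
    have hθ : ∀ b, val k (θ b) = ev b := fun b =>
      (Equiv.ofBijective _ (val_bijective k)).apply_symm_apply _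
    obtain ⟨z, hz⟩ := hsurj θ
      (fun b b' => (val_bijective k).injective (by
        obtain ⟨b, rfl⟩ := S.map_surjective b
        obtain ⟨b', rfl⟩ := S.map_surjective b'
        rw [map_add, hθ, hθ, hθ, ← S.map_add, hev, hev, hev, Scheme.Modules.Hom.add_app]
        exact (congrArg g (map_add e₀.symm _ _)).trans (map_add g _ _)))
      (fun a b hab x => (val_bijective k).injective (by
        obtain ⟨x, rfl⟩ := S.map_surjective x
        rw [val_comp, hθ, hθ, rel_eq k hab, ← S.map_comp, hev, hev]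
        refine Eq.trans ?_ (map_smul g (val k a) _)
        refine congrArg g (e₀.injective ?_)
        rw [e₀.apply_symm_apply]
        refine Eq.trans ?_ ((he₀ _ _).trans (congrArg (fun r : Γ(X, ⊤) => (id (Coh.toGlobal 𝕡 (val k a)) : Γ(X, ⊤)) * r)
          (e₀.apply_symm_apply _))).symm
        show x.app ⊤ ((CurveEnd.smulMod (Coh.structureModule X) _).app ⊤ (1 : Γ(X, ⊤))) = _
        rw [smulMod_unit_one]
        refine Eq.trans (congrArg (x.app ⊤)
          (mul_one (id (Coh.toGlobal 𝕡 (val k a)) : Γ(X, ⊤))).symm) ?_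
        exact x.app_smul _ _))
    obtain ⟨x, rfl⟩ := (hj0 hH0 O hOle).surjective z
    refine ⟨homHH ω x, LinearMap.ext fun y => ?_⟩
    rw [hΛ, hz, hθ, hev]
    refine congrArg g ((congrArg e₀.symm ?_).trans (e₀.symm_apply_apply y))
    exact smulMod_unit_one _
  rw [← Subspace.dual_finrank_eq (K := k) (V := Coh.HH X (Coh.structureModule X) 0)]
  exact LinearEquiv.finrank_eq (LinearEquiv.ofBijective Λ ⟨hΛinj, hΛsurj⟩)

end

end Groth.Agent.CurveDual15
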