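import Groth.Agent.QCoh.Sections
import Groth.Agent.QCoh.ToSheaf
import Mathlib.Topology.Sheaves.LocallySurjective
import Mathlib.CategoryTheory.Preadditive.Projective.Basic
import Mathlib.CategoryTheory.Preadditive.Injective.Basic
import Mathlib.LinearAlgebra.Basis.VectorSpace
import Mathlib.LinearAlgebra.Dual.Basis
import Groth.Prelude.Def_Coh

/-!
# Modules on a one-point scheme whose ring of functions is a field
-/

set_option autoImplicit false
set_option linter.style.haveILetI false
set_option backward.isDefEq.respectTransparency false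
set_option backward.isDefEq.respectTransparency.types false

universe u

open CategoryTheory CategoryTheory.Limits AlgebraicGeometry TopologicalSpace Opposite

namespace Groth.Agent.CurveDual15

variable {Y : Scheme.{u}} [Subsingleton Y]

omit [Subsingleton Y] in
lemma subsingleton_sections_bot (M : Y.Modules) : Subsingleton Γ(M, (⊥ : Y.Opens)) :=
  subsingleton_of_forall_eq 0 fun x => QCoh.eq_zero_of_locally _ x fun _ hy => hy.elim

lemma opens_eq_bot_or_top (U : Y.Opens) : U = ⊥ ∨ U = ⊤ := by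
  by_cases h : (U : Set Y).Nonempty
  · obtain ⟨y, hy⟩ := h
    exact Or.inr (Opens.ext (Set.eq_univ_of_forall fun z => Subsingleton.elim y z ▸ hy))
  · exact Or.inl (Opens.ext (Set.not_nonempty_iff_eq_empty.1 h))

variable {M N : Y.Modules}

/-- Morphisms are determined by their effect on global sections. -/
lemma hom_ext_top {f g : M ⟶ N} (h : ∀ s, f.app ⊤ s = g.app ⊤ s) : f = g := by
  refine Scheme.Modules.hom_ext _ _ fun U => ?_
  rcases opens_eq_bot_or_top U with rfl | rfl
  · haveI := subsingleton_sections_bot N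
    exact ConcreteCategory.hom_ext _ _ fun x => Subsingleton.elim _ _
  · exact ConcreteCategory.hom_ext _ _ h

open Classical in
/-- A linear map on global sections comes from a morphism. -/
lemma exists_hom_top (l : Γ(M, (⊤ : Y.Opens)) →ₗ[Γ(Y, ⊤)] Γ(N, (⊤ : Y.Opens))) :
    ∃ f : M ⟶ N, ∀ s, f.app ⊤ s = l s := by
  let app : ∀ U : Y.Opens, Γ(M, U) →+ Γ(N, U) := fun U =>
    if hU : U = ⊤ then
      ((N.presheaf.map (homOfLE (hU ▸ le_rfl : U ≤ ⊤)).op).hom.comp
        (l.toAddMonoidHom.comp (M.presheaf.map (homOfLE (hU ▸ le_rfl : (⊤ : Y.Opens) ≤ U)).op).hom))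
    else 0
  have happ : ∀ s, app ⊤ s = l s := fun s => by
    simp only [app, dif_pos, AddMonoidHom.coe_comp, Function.comp_apply]
    change N.presheaf.map (homOfLE (le_refl (⊤ : Y.Opens))).op
      (l (M.presheaf.map (homOfLE (le_refl (⊤ : Y.Opens))).op s)) = l s
    simp
  have hnat : ∀ (U V : Y.Opens) (h : V ≤ U) (s : Γ(M, U)),
      N.presheaf.map (homOfLE h).op (app U s) = app V (M.presheaf.map (homOfLE h).op s) := by
    intro U V h s
    rcases opens_eq_bot_or_top V with rfl | rfl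
    · exact (subsingleton_sections_bot N).elim _ _
    · obtain rfl : U = ⊤ := top_le_iff.1 h
      simp
  let β : M.presheaf ⟶ N.presheaf :=
    { app := fun U => AddCommGrpCat.ofHom (app U.unop)
      naturality := fun U V i => AddCommGrpCat.ext fun s => (hnat U.unop V.unop (leOfHom i.unop) s).symm }
  have hlin : ∀ (W : Y.Opens) (r : Γ(Y, W)) (m : Γ(M, W)),
      β.app (op W) (r • m) = r • (β.app (op W) m : Γ(N, W)) := by
    intro W r m
    rcases opens_eq_bot_or_top W with rfl | rfl
    · exact (subsingleton_sections_bot N).elim _ _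
    · change app ⊤ (r • m) = r • app ⊤ m
      rw [happ, happ, map_smul]
  exact ⟨⟨PresheafOfModules.homMk β fun W r m => hlin W.unop r m⟩, fun s => happ s⟩

/-- Global sections as morphisms out of the structure sheaf. -/
lemma exists_hom_unit (s : Γ(M, (⊤ : Y.Opens))) :
    ∃ f : Coh.structureModule Y ⟶ M, f.app ⊤ (1 : Γ(Y, ⊤)) = s := by
  let l : Γ(Coh.structureModule Y, (⊤ : Y.Opens)) →ₗ[Γ(Y, ⊤)] Γ(M, (⊤ : Y.Opens)) :=
    { toFun := fun r => (id r : Γ(Y, ⊤)) • s
      map_add' := fun a b => add_smul (id a : Γ(Y, ⊤)) (id b) s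
      map_smul' := fun a b => mul_smul a (id b : Γ(Y, ⊤)) s }
  obtain ⟨f, hf⟩ := exists_hom_top (M := Coh.structureModule Y) (N := M) l
  exact ⟨f, (hf _).trans (one_smul _ s)⟩

/-- The structure sheaf of a one-point scheme is projective. -/
lemma projective_unit : Projective (Coh.structureModule Y) := by
  refine ⟨fun {E X} f e he => ?_⟩
  obtain ⟨t, ht⟩ : ∃ t, e.app ⊤ t = f.app ⊤ (1 : Γ(Y, ⊤)) := by
    by_cases hY : Nonempty Y
    · obtain ⟨y⟩ := hY
      haveI : Epi ((QCoh.toAbFunctor Y).map e) := inferInstance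
      obtain ⟨U, i, ⟨t, ht⟩, hy⟩ := (TopCat.Presheaf.isLocallySurjective_iff _).1
        ((TopCat.Sheaf.isLocallySurjective_iff_epi _).2 this) ⊤ (f.app ⊤ (1 : Γ(Y, ⊤))) y trivial
      obtain rfl : U = ⊤ := (opens_eq_bot_or_top U).resolve_left fun h => by
        rw [h] at hy; exact hy.elim
      refine ⟨t, ?_⟩
      have h1 : X.presheaf.map (homOfLE i).op = 𝟙 _ := X.presheaf.map_id _
      exact ht.trans (ConcreteCategory.congr_hom h1 _)
    · haveI : IsEmpty Y := not_nonempty_iff.1 hY
      haveI : Subsingleton Γ(X, (⊤ : Y.Opens)) := subsingleton_of_forall_eq 0 fun x =>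
        QCoh.eq_zero_of_locally _ x fun z _ => isEmptyElim z
      exact ⟨0, Subsingleton.elim _ _⟩
  obtain ⟨g, hg⟩ := exists_hom_unit t
  refine ⟨g, hom_ext_top fun r => ?_⟩
  have key : ∀ {A : Y.Modules} (h : Coh.structureModule Y ⟶ A), h.app ⊤ r = (id r : Γ(Y, ⊤)) • h.app ⊤ (1 : Γ(Y, ⊤)) :=
    fun h => by
      rw [← Scheme.Modules.Hom.app_smul]
      exact congrArg _ (mul_one (id r : Γ(Y, ⊤))).symm
  rw [key (g ≫ e), key f]
  refine congrArg _ ?_
  change e.app ⊤ (g.app ⊤ (1 : Γ(Y, ⊤))) = _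
  rw [hg, ht]

/-- Every additive equivariant map on sections comes from a morphism to the structure sheaf. -/
lemma exists_hom_of_functional (θ : (Coh.structureModule Y ⟶ M) → (Coh.structureModule Y ⟶ Coh.structureModule Y))
    (hadd : ∀ x x', θ (x + x') = θ x + θ x') (hc : ∀ a x, θ (a ≫ x) = a ≫ θ x) :
    ∃ φ : M ⟶ Coh.structureModule Y, ∀ x, x ≫ φ = θ x := by
  choose x hx using fun s : Γ(M, (⊤ : Y.Opens)) => exists_hom_unit s
  have huniq : ∀ {N : Y.Modules} (a b : Coh.structureModule Y ⟶ N),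
      a.app ⊤ (1 : Γ(Y, ⊤)) = b.app ⊤ (1 : Γ(Y, ⊤)) → a = b := fun {N} a b h => by
    refine hom_ext_top fun r => ?_
    have key : ∀ h : Coh.structureModule Y ⟶ N,
        h.app ⊤ r = (id r : Γ(Y, ⊤)) • h.app ⊤ (1 : Γ(Y, ⊤)) := fun h => by
      rw [← Scheme.Modules.Hom.app_smul]
      exact congrArg _ (mul_one (id r : Γ(Y, ⊤))).symm
    rw [key a, key b, h]
  let l : Γ(M, (⊤ : Y.Opens)) →ₗ[Γ(Y, ⊤)] Γ(Coh.structureModule Y, (⊤ : Y.Opens)) :=
    { toFun := fun s => (θ (x s)).app ⊤ (1 : Γ(Y, ⊤))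
      map_add' := fun s t => by
        have h : x (s + t) = x s + x t := huniq _ _ (by
          rw [Scheme.Modules.Hom.add_app]
          exact (hx _).trans (congrArg₂ (· + ·) (hx s) (hx t)).symm)
        rw [h, hadd]
        rfl
      map_smul' := fun r s => by
        obtain ⟨a, ha⟩ := exists_hom_unit (M := Coh.structureModule Y) r
        have h : x (r • s) = a ≫ x s := huniq _ _ (by
          refine (hx _).trans ?_
          change r • s = (x s).app ⊤ (a.app ⊤ (1 : Γ(Y, ⊤)))
          rw [ha, ← hx s, ← Scheme.Modules.Hom.app_smul, hx]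
          exact congrArg _ (mul_one r))
        rw [h, hc]
        change (θ (x s)).app ⊤ (a.app ⊤ (1 : Γ(Y, ⊤))) = _
        rw [ha, RingHom.id_apply, ← Scheme.Modules.Hom.app_smul]
        exact congrArg _ (mul_one r).symm }
  obtain ⟨φ, hφ⟩ := exists_hom_top l
  refine ⟨φ, fun z => huniq _ _ ?_⟩
  have hz : x (z.app ⊤ (1 : Γ(Y, ⊤))) = z := huniq _ _ (hx _)
  exact (hφ _).trans (congrArg (fun w => (θ w).app ⊤ (1 : Γ(Y, ⊤))) hz)

variable (hR : IsField Γ(Y, ⊤))
include hR

/-- The structure sheaf of a one-point scheme over a field is injective. -/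
lemma injective_unit : Injective (Coh.structureModule Y) := by
  refine ⟨fun {A B} g f hf => ?_⟩
  let _ : Field Γ(Y, ⊤) := hR.toField
  let lf : Γ(A, (⊤ : Y.Opens)) →ₗ[Γ(Y, ⊤)] Γ(B, (⊤ : Y.Opens)) :=
    { toFun := f.app ⊤, map_add' := fun a b => map_add _ a b, map_smul' := fun r a => f.app_smul r a }
  let lg : Γ(A, (⊤ : Y.Opens)) →ₗ[Γ(Y, ⊤)] Γ(Coh.structureModule Y, (⊤ : Y.Opens)) :=
    { toFun := g.app ⊤, map_add' := fun a b => map_add _ a b, map_smul' := fun r a => g.app_smul r a }
  have hinj : LinearMap.ker lf = ⊥ := by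
    refine LinearMap.ker_eq_bot.2 ?_
    haveI : Mono ((Scheme.Modules.toPresheaf Y).map f) := inferInstance
    haveI := (NatTrans.mono_iff_mono_app ((Scheme.Modules.toPresheaf Y).map f)).1 this (op ⊤)
    exact (AddCommGrpCat.mono_iff_injective (f.app ⊤)).1 this
  obtain ⟨p, hp⟩ := LinearMap.exists_leftInverse_of_injective lf hinj
  obtain ⟨h, hh⟩ := exists_hom_top (lg.comp p)
  refine ⟨h, hom_ext_top fun s => ?_⟩
  change h.app ⊤ (lf s) = lg s
  rw [hh]
  exact congrArg lg (LinearMap.congr_fun hp s)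

omit hR in
/-- Morphisms to the structure sheaf are separated by global sections. -/
lemma eq_of_functionals {f g : M ⟶ Coh.structureModule Y}
    (h : ∀ a : Coh.structureModule Y ⟶ M, a ≫ f = a ≫ g) : f = g :=
  hom_ext_top fun s => by
    obtain ⟨a, rfl⟩ := exists_hom_unit s
    exact congrArg (fun φ : Coh.structureModule Y ⟶ Coh.structureModule Y => φ.app ⊤ (1 : Γ(Y, ⊤))) (h a)

end Groth.Agent.CurveDual15
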