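import Groth.Agent.CurveDual15.Single
import Groth.Agent.CurveDual15.Point
import Groth.Agent.KFlatLib.Scheme.Adjoint
import Groth.Agent.KFlatLib.Scheme.RGammaPush
import Groth.Prelude.Def_DDual2

/-!
# The pairing of duality over a one-point base

For `f : X ⟶ Y` with `Y` the spectrum of a field, `T = f^! O_Y` and `K` in `D_QCoh(X)`, composition
gives a perfect pairing `Hom(O_X, K) × Hom(K, T) ⟶ Hom(O_X, T) ⟶ End(O_Y)`.
-/

set_option autoImplicit false
set_option linter.style.haveILetI false
set_option backward.isDefEq.respectTransparency false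
set_option backward.isDefEq.respectTransparency.types false

universe u

open CategoryTheory CategoryTheory.Limits AlgebraicGeometry TopologicalSpace Opposite

attribute [local instance] HasDerivedCategory.standard

namespace Groth.Agent.CurveDual15

section Base

variable {Y : Scheme.{u}} [Subsingleton Y] (hR : IsField Γ(Y, ⊤))
include hR

/-- Maps `N ⟶ O_Y` are the equivariant functionals on maps `O_Y ⟶ N`. -/
theorem base_pairing (N : DCoh.D Y) :
    (∀ ψ ψ' : N ⟶ sg (Coh.structureModule Y),
        (∀ x : sg (Coh.structureModule Y) ⟶ N, x ≫ ψ = x ≫ ψ') → ψ = ψ') ∧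
      ∀ θ : (sg (Coh.structureModule Y) ⟶ N) → (sg (Coh.structureModule Y) ⟶ sg (Coh.structureModule Y)),
        (∀ x x', θ (x + x') = θ x + θ x') →
        (∀ (a : Coh.structureModule Y ⟶ Coh.structureModule Y) x,
          θ ((DerivedCategory.singleFunctor Y.Modules 0).map a ≫ x) =
            (DerivedCategory.singleFunctor Y.Modules 0).map a ≫ θ x) →
        ∃ ψ : N ⟶ sg (Coh.structureModule Y), ∀ x, x ≫ ψ = θ x := by
  haveI := projective_unit (Y := Y)
  haveI := injective_unit hR
  let O := Coh.structureModule Y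
  let S := DerivedCategory.singleFunctor Y.Modules 0
  let H := h0.obj N
  let L : (sg O ⟶ N) → (O ⟶ H) := fun x => (h0sg O).inv ≫ h0.map x
  let R : (N ⟶ sg O) → (H ⟶ O) := fun ψ => h0.map ψ ≫ (h0sg O).hom
  let L₀ : (sg O ⟶ sg O) → (O ⟶ O) := fun z => (h0sg O).inv ≫ h0.map z ≫ (h0sg O).hom
  have hL : Function.Bijective L :=
    (bijective_comp_iso (h0sg O).inv).comp (bijective_h0_projective O N)
  have hR' : Function.Bijective R :=
    (bijective_iso_comp (h0sg O).hom).comp (bijective_h0_injective O N)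
  have hL₀ : Function.Bijective L₀ := by
    have := ((bijective_comp_iso (h0sg O).inv).comp
      ((bijective_iso_comp (h0sg O).hom).comp (bijective_h0_projective O (sg O))))
    exact this
  have hcomp : ∀ x ψ, L₀ (x ≫ ψ) = L x ≫ R ψ := fun x ψ => by simp [L₀, L, R]
  have hnat : ∀ (a : O ⟶ O), (h0sg O).inv ≫ h0.map (S.map a) = a ≫ (h0sg O).inv := fun a =>
    (DerivedCategory.singleFunctorCompHomologyFunctorIso Y.Modules 0).inv.naturality a |>.symm
  refine ⟨fun ψ ψ' h => hR'.injective (eq_of_functionals fun w => ?_), fun θ hadd hc => ?_⟩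
  · obtain ⟨x, rfl⟩ := hL.surjective w
    rw [← hcomp, ← hcomp, h x]
  · let e := Equiv.ofBijective L hL
    have he : ∀ w, L (e.symm w) = w := e.apply_symm_apply
    obtain ⟨φ, hφ⟩ := exists_hom_of_functional (M := H) (fun w => L₀ (θ (e.symm w)))
      (fun w w' => by
        have h1 : e.symm (w + w') = e.symm w + e.symm w' := hL.injective (by
          rw [he]
          conv_lhs => rw [← he w, ← he w']
          simp [L, Functor.map_add])
        rw [h1, hadd]
        simp [L₀, Functor.map_add])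
      (fun a w => by
        have h1 : e.symm (a ≫ w) = S.map a ≫ e.symm w := hL.injective (by
          rw [he]
          conv_lhs => rw [← he w]
          simp only [L, Functor.map_comp]
          rw [reassoc_of% (hnat a)])
        rw [h1, hc]
        simp only [L₀, Functor.map_comp, Category.assoc]
        rw [reassoc_of% (hnat a)])
    obtain ⟨ψ, hψ⟩ := hR'.surjective φ
    refine ⟨ψ, fun x => hL₀.injective ?_⟩
    rw [hcomp, hψ, hφ]
    exact congrArg (fun y => L₀ (θ y)) (e.symm_apply_apply x)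

end Base

section Pull

variable {X Y : Scheme.{u}} (f : X ⟶ Y) [DCoh.HasLpull f]

/-- The comparison `Lf^* M ⟶ f^* M` for modules. -/
noncomputable def lpullSg :
    DerivedCategory.singleFunctor Y.Modules 0 ⋙ DCoh.Lpull f ⟶
      Scheme.Modules.pullback f ⋙ DerivedCategory.singleFunctor X.Modules 0 :=
  Functor.whiskerRight (((SingleFunctors.evaluation _ _ 0).mapIso
      (DerivedCategory.singleFunctorsPostcompQIso Y.Modules)).hom) (DCoh.Lpull f) ≫
    Functor.whiskerRight (Functor.whiskerLeft (CochainComplex.singleFunctor Y.Modules 0)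
      (DerivedCategory.quotientCompQhIso Y.Modules).inv) (DCoh.Lpull f) ≫
    Functor.whiskerLeft (CochainComplex.singleFunctor Y.Modules 0 ⋙ HomotopyCategory.quotient Y.Modules (ComplexShape.up ℤ))
      ((DCoh.pullKh f).totalLeftDerivedCounit DerivedCategory.Qh
        (HomotopyCategory.quasiIso Y.Modules (ComplexShape.up ℤ))) ≫
    Functor.whiskerLeft (CochainComplex.singleFunctor Y.Modules 0)
      (Functor.whiskerRight ((Scheme.Modules.pullback f).mapHomotopyCategoryFactors (ComplexShape.up ℤ)).hom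
        DerivedCategory.Qh) ≫
    Functor.whiskerLeft (CochainComplex.singleFunctor Y.Modules 0 ⋙
      (Scheme.Modules.pullback f).mapHomologicalComplex (ComplexShape.up ℤ))
      (DerivedCategory.quotientCompQhIso X.Modules).hom ≫
    Functor.whiskerRight (HomologicalComplex.singleMapHomologicalComplex (Scheme.Modules.pullback f)
      (ComplexShape.up ℤ) 0).hom DerivedCategory.Q ≫
    Functor.whiskerLeft (Scheme.Modules.pullback f) (((SingleFunctors.evaluation _ _ 0).mapIso
      (DerivedCategory.singleFunctorsPostcompQIso X.Modules)).inv)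

lemma isIso_lpullSg_app {M : Y.Modules} (hM : FlatMod.IsFlat M) : IsIso ((lpullSg f).app M) := by
  have hK : DCoh.IsKFlat ((CochainComplex.singleFunctor Y.Modules 0).obj M) :=
    KFlatLib.isKFlat_of_isStrictlyLE _ 0 (KFlatLib.isFlat_single 0 hM)
  haveI := KFlatLib.isIso_Lpull_counit f hK
  simp only [lpullSg, NatTrans.comp_app, Functor.whiskerLeft_app, Functor.whiskerRight_app]
  haveI h1 : IsIso (((DCoh.pullKh f).totalLeftDerivedCounit DerivedCategory.Qh
      (HomotopyCategory.quasiIso Y.Modules (ComplexShape.up ℤ))).app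
      ((CochainComplex.singleFunctor Y.Modules 0 ⋙
        HomotopyCategory.quotient Y.Modules (ComplexShape.up ℤ)).obj M)) := this
  infer_instance

/-- `f^* O_Y ≅ O_X`. -/
noncomputable def pullUnit :
    (Scheme.Modules.pullback f).obj (Coh.structureModule Y) ⟶ Coh.structureModule X :=
  SheafOfModules.pullbackObjUnitToUnit f.toRingCatSheafHom

/-- `Lf^* O_Y ⟶ O_X`. -/
noncomputable def lpullUnit :
    (DCoh.Lpull f).obj (sg (Coh.structureModule Y)) ⟶ sg (Coh.structureModule X) :=
  (lpullSg f).app _ ≫ (DerivedCategory.singleFunctor X.Modules 0).map (pullUnit f)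

instance isIso_lpullUnit : IsIso (lpullUnit f) := by
  haveI := isIso_lpullSg_app f (KFlatLib.isFlat_structureModule (X := Y))
  haveI : IsIso (pullUnit f) :=
    inferInstanceAs (IsIso (SheafOfModules.pullbackObjUnitToUnit f.toRingCatSheafHom))
  unfold lpullUnit
  infer_instance

/-- Scalars of the base act on `O_X` as their pullbacks. -/
lemma lpullUnit_natural (a : Coh.structureModule Y ⟶ Coh.structureModule Y)
    (b : Coh.structureModule X ⟶ Coh.structureModule X)
    (h : b.app ⊤ (1 : Γ(X, ⊤)) = f.appTop (a.app ⊤ (1 : Γ(Y, ⊤)))) :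
    (DCoh.Lpull f).map ((DerivedCategory.singleFunctor Y.Modules 0).map a) ≫ lpullUnit f =
      lpullUnit f ≫ (DerivedCategory.singleFunctor X.Modules 0).map b := by
  have key : (Scheme.Modules.pullback f).map a ≫ pullUnit f = pullUnit f ≫ b := by
    let adj := SheafOfModules.pullbackPushforwardAdjunction f.toRingCatSheafHom
    refine (adj.homEquiv _ _).injective ?_
    show adj.homEquiv _ _ ((SheafOfModules.pullback f.toRingCatSheafHom).map a ≫ pullUnit f) = _
    rw [adj.homEquiv_naturality_left, adj.homEquiv_naturality_right]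
    have e₀ : adj.homEquiv _ _ (pullUnit f) =
        SheafOfModules.unitToPushforwardObjUnit f.toRingCatSheafHom :=
      Equiv.apply_symm_apply _ _
    erw [e₀]
    apply SheafOfModules.unitHomEquiv _ |>.injective
    refine Subtype.ext (funext fun U => ?_)
    have hU : ∀ {Z : Scheme.{u}} (c : Coh.structureModule Z ⟶ Coh.structureModule Z) (W : Z.Opens),
        c.app W (1 : Γ(Z, W)) = Z.presheaf.map (homOfLE (le_top : W ≤ ⊤)).op (c.app ⊤ (1 : Γ(Z, ⊤))) :=
      fun {Z} c W => by
        have := ConcreteCategory.congr_hom (c.mapPresheaf.naturality (homOfLE (le_top : W ≤ ⊤)).op)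
          (1 : Γ(Z, ⊤))
        refine Eq.trans (congrArg (c.app W) ?_) this
        exact (map_one (Z.presheaf.map (homOfLE (le_top : W ≤ ⊤)).op).hom).symm
    change f.app U.unop (a.app U.unop (1 : Γ(Y, U.unop))) =
      b.app (f ⁻¹ᵁ U.unop) (f.app U.unop (1 : Γ(Y, U.unop)))
    refine (congrArg (f.app U.unop) (hU a U.unop)).trans ?_
    refine Eq.trans ?_ (congrArg (b.app (f ⁻¹ᵁ U.unop)) (map_one (f.app U.unop).hom)).symm
    refine Eq.trans ?_ (hU b (f ⁻¹ᵁ U.unop)).symm
    refine Eq.trans ?_ (congrArg (X.presheaf.map (homOfLE (le_top : f ⁻¹ᵁ U.unop ≤ ⊤)).op) h).symm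
    exact ConcreteCategory.congr_hom (f.naturality (homOfLE (le_top : U.unop ≤ ⊤)).op) _
  have hn := (lpullSg f).naturality a
  simp only [Functor.comp_map] at hn
  simp only [lpullUnit, Category.assoc]
  rw [reassoc_of% hn, ← Functor.map_comp, key, Functor.map_comp]

end Pull

section Trace

variable {X Y : Scheme.{u}} [Subsingleton Y] (f : X ⟶ Y) [DCoh.HasRpush f]
  (h : DCoh.RpushPreservesQCoh f) [DCoh.HasShriek f h]

/-- Duality over a one-point base, as a perfect pairing. -/
theorem exists_trace (hR : IsField Γ(Y, ⊤)) (OY : DCoh.DQCoh Y)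
    (hOY : Nonempty (OY.obj ≅ DCoh.inD Y (Coh.structureModule Y))) :
    ∃ τ : (DCoh.inD X (Coh.structureModule X) ⟶ DCoh.dualizingCx f h OY) →+
        (Coh.structureModule Y ⟶ Coh.structureModule Y),
      (∀ (a : Coh.structureModule Y ⟶ Coh.structureModule Y)
          (b : Coh.structureModule X ⟶ Coh.structureModule X),
          b.app ⊤ (1 : Γ(X, ⊤)) = f.appTop (a.app ⊤ (1 : Γ(Y, ⊤))) →
          ∀ z, τ ((DerivedCategory.singleFunctor X.Modules 0).map b ≫ z) = a ≫ τ z) ∧
      ∀ K : DCoh.D X, DCoh.IsQCohD K →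
        (∀ y : K ⟶ DCoh.dualizingCx f h OY,
          (∀ x : DCoh.inD X (Coh.structureModule X) ⟶ K, τ (x ≫ y) = 0) → y = 0) ∧
        ∀ θ : (DCoh.inD X (Coh.structureModule X) ⟶ K) → (Coh.structureModule Y ⟶ Coh.structureModule Y),
          (∀ x x', θ (x + x') = θ x + θ x') →
          (∀ (a : Coh.structureModule Y ⟶ Coh.structureModule Y)
            (b : Coh.structureModule X ⟶ Coh.structureModule X),
            b.app ⊤ (1 : Γ(X, ⊤)) = f.appTop (a.app ⊤ (1 : Γ(Y, ⊤))) →
            ∀ x, θ ((DerivedCategory.singleFunctor X.Modules 0).map b ≫ x) = a ≫ θ x) →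
          ∃ y : K ⟶ DCoh.dualizingCx f h OY, ∀ x, τ (x ≫ y) = θ x := by
  haveI := KFlatLib.hasLpull f
  obtain ⟨adj⟩ := KFlatLib.nonempty_lpull_rpush_adj f
  obtain ⟨eO⟩ := hOY
  let S := DerivedCategory.singleFunctor Y.Modules 0
  let O := Coh.structureModule Y
  let OX := DCoh.inD X (Coh.structureModule X)
  let T := DCoh.dualizingCx f h OY
  let Ψ : ∀ K : DCoh.D X, (OX ⟶ K) → (S.obj O ⟶ (DCoh.Rpush f).obj K) := fun K x =>
    adj.homEquiv _ _ (lpullUnit f ≫ x)
  have hΨ : ∀ K, Function.Bijective (Ψ K) := fun K =>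
    (adj.homEquiv _ _).bijective.comp (bijective_comp_iso (lpullUnit f))
  have hΨnat : ∀ {K L : DCoh.D X} (x : OX ⟶ K) (y : K ⟶ L),
      Ψ L (x ≫ y) = Ψ K x ≫ (DCoh.Rpush f).map y := fun {K L} x y => by
    show adj.homEquiv _ _ (lpullUnit f ≫ x ≫ y) = adj.homEquiv _ _ (lpullUnit f ≫ x) ≫ _
    rw [← Category.assoc]
    exact adj.homEquiv_naturality_right _ _
  have hΨleft : ∀ (a : O ⟶ O) (b : Coh.structureModule X ⟶ Coh.structureModule X),
      b.app ⊤ (1 : Γ(X, ⊤)) = f.appTop (a.app ⊤ (1 : Γ(Y, ⊤))) → ∀ {K : DCoh.D X} (x : OX ⟶ K),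
      Ψ K ((DerivedCategory.singleFunctor X.Modules 0).map b ≫ x) = S.map a ≫ Ψ K x :=
    fun a b hab {K} x => by
      simp only [Ψ]
      rw [← Category.assoc, ← lpullUnit_natural f a b hab, Category.assoc,
        adj.homEquiv_naturality_left]
  have hex : ∀ a : O ⟶ O, ∃ b : Coh.structureModule X ⟶ Coh.structureModule X,
      b.app ⊤ (1 : Γ(X, ⊤)) = f.appTop (a.app ⊤ (1 : Γ(Y, ⊤))) := fun a => by
    let r : Γ(X, ⊤) := f.appTop (a.app ⊤ (1 : Γ(Y, ⊤)))
    refine ⟨(SheafOfModules.unitHomEquiv _).symm ⟨fun U => X.presheaf.map (homOfLE le_top).op r,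
      fun {U V} i => ?_⟩, ?_⟩
    · change X.presheaf.map i (X.presheaf.map _ r) = _
      rw [← ConcreteCategory.comp_apply, ← Functor.map_comp]
      rfl
    · refine (congrFun (congrArg Subtype.val
        ((SheafOfModules.unitHomEquiv (Coh.structureModule X)).apply_symm_apply _)) (op ⊤)).trans ?_
      change X.presheaf.map (homOfLE le_top).op r = r
      simp
  let εD : (DCoh.Rpush f).obj T ⟶ S.obj O :=
    ((DCoh.shriekAdj f h).counit.app OY).hom ≫ eO.hom
  let γ : (S.obj O ⟶ S.obj O) →+ (O ⟶ O) :=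
    AddMonoidHom.mk' (fun z => (h0sg O).inv ≫ h0.map z ≫ (h0sg O).hom)
      fun z z' => by simp [Functor.map_add]
  have hγS : ∀ (a : O ⟶ O) z, γ (S.map a ≫ z) = a ≫ γ z := fun a z => by
    have hnat : (h0sg O).inv ≫ h0.map (S.map a) = a ≫ (h0sg O).inv :=
      ((DerivedCategory.singleFunctorCompHomologyFunctorIso Y.Modules 0).inv.naturality a).symm
    show (h0sg O).inv ≫ h0.map (S.map a ≫ z) ≫ (h0sg O).hom = a ≫ (h0sg O).inv ≫ h0.map z ≫ (h0sg O).hom
    rw [Functor.map_comp, Category.assoc, reassoc_of% hnat]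
  have hγ : Function.Bijective γ :=
    (bijective_comp_iso (h0sg O).inv).comp
      ((bijective_iso_comp (h0sg O).hom).comp (bijective_h0_sg O O))
  haveI := adj.rightAdjoint_preservesLimits.{0, 0}
  haveI : PreservesLimitsOfShape (Discrete WalkingPair) (DCoh.Rpush f) := inferInstance
  haveI := preservesBinaryBiproducts_of_preservesBinaryProducts (DCoh.Rpush f)
  haveI : (DCoh.Rpush f).Additive := Functor.additive_of_preservesBinaryBiproducts _
  have hΨadd : ∀ {K : DCoh.D X} (x x' : OX ⟶ K), Ψ K (x + x') = Ψ K x + Ψ K x' := fun {K} x x' => by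
    simp only [Ψ, Preadditive.comp_add, adj.homEquiv_unit]
    simp [Functor.map_add]
  refine ⟨AddMonoidHom.mk' (fun z => γ (Ψ T z ≫ εD)) (fun z z' => by
    rw [hΨadd, Preadditive.add_comp, map_add]), fun a b hab z => ?_, fun K hK => ?_⟩
  · show γ (Ψ T (_ ≫ z) ≫ εD) = a ≫ γ (Ψ T z ≫ εD)
    rw [hΨleft a b hab, Category.assoc, hγS]
  let eQ := (DCoh.shriekAdj f h).homEquiv ⟨K, hK⟩ OY
  let toY : (K ⟶ T) → ((DCoh.Rpush f).obj K ⟶ S.obj O) := fun y => (DCoh.Rpush f).map y ≫ εD
  have htoY : Function.Bijective toY := by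
    have h1 : toY = fun y => (eQ.symm (ObjectProperty.homMk y)).hom ≫ eO.hom := funext fun y => by
      simp only [toY, εD, eQ, Adjunction.homEquiv_counit]
      simp [ObjectProperty.lift]
    rw [h1]
    refine (bijective_iso_comp eO.hom).comp ?_
    refine ⟨fun y y' hy => ?_, fun ψ => ⟨(eQ (ObjectProperty.homMk ψ)).hom, ?_⟩⟩
    · exact congrArg (fun t => t.hom) (eQ.symm.injective (ObjectProperty.hom_ext _ hy))
    · exact congrArg (fun t => t.hom) (eQ.symm_apply_apply (ObjectProperty.homMk ψ))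
  obtain ⟨hinj, hsurj⟩ := base_pairing hR ((DCoh.Rpush f).obj K)
  have hτ : ∀ (y : K ⟶ T) (x : OX ⟶ K), Ψ T (x ≫ y) ≫ εD = Ψ K x ≫ toY y := fun y x => by
    rw [hΨnat, Category.assoc]
  refine ⟨fun y hy => htoY.injective (hinj _ _ fun w => ?_), fun θ hadd hc => ?_⟩
  · obtain ⟨x, rfl⟩ := (hΨ K).surjective w
    have h2 : toY (0 : K ⟶ T) = 0 := by
      simp [toY]
    rw [h2, comp_zero, ← hτ]
    exact hγ.injective ((hy x).trans (map_zero γ).symm)
  · let eΨ := Equiv.ofBijective (Ψ K) (hΨ K)
    let eγ := Equiv.ofBijective γ hγ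
    obtain ⟨ψ, hψ⟩ := hsurj (fun w => eγ.symm (θ (eΨ.symm w)))
      (fun w w' => by
        have h1 : eΨ.symm (w + w') = eΨ.symm w + eΨ.symm w' := (hΨ K).injective (by
          rw [hΨadd]
          exact (eΨ.apply_symm_apply _).trans
            (congrArg₂ (· + ·) (eΨ.apply_symm_apply w) (eΨ.apply_symm_apply w')).symm)
        rw [h1, hadd]
        exact hγ.injective ((eγ.apply_symm_apply _).trans
          ((map_add γ _ _).trans (congrArg₂ (· + ·) (eγ.apply_symm_apply _) (eγ.apply_symm_apply _))).symm))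
      (fun a w => by
        obtain ⟨b, hb⟩ := hex a
        have h1 : eΨ.symm (S.map a ≫ w) =
            (DerivedCategory.singleFunctor X.Modules 0).map b ≫ eΨ.symm w := (hΨ K).injective (by
          rw [hΨleft a b hb]
          exact (eΨ.apply_symm_apply _).trans
            (congrArg (S.map a ≫ ·) (eΨ.apply_symm_apply w)).symm)
        rw [h1, hc a b hb]
        exact hγ.injective ((eγ.apply_symm_apply _).trans
          ((hγS _ _).trans (congrArg (a ≫ ·) (eγ.apply_symm_apply _))).symm))
    obtain ⟨y, rfl⟩ := htoY.surjective ψ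
    refine ⟨y, fun x => ?_⟩
    show γ (Ψ T (x ≫ y) ≫ εD) = θ x
    rw [hτ]
    refine (congrArg γ (hψ _)).trans ((eγ.apply_symm_apply _).trans ?_)
    exact congrArg θ (eΨ.symm_apply_apply x)

end Trace

end Groth.Agent.CurveDual15
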