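import Mathlib.Algebra.Homology.DerivedCategory.TStructure
import Mathlib.Algebra.Homology.DerivedCategory.FullyFaithful
import Mathlib.Algebra.Homology.DerivedCategory.KInjective
import Mathlib.Algebra.Homology.DerivedCategory.KProjective

/-!
# Morphisms in the derived category into injective and out of projective objects

For `I` injective, `Hom(N, I) = Hom(H⁰ N, I)`; for `P` projective, `Hom(P, N) = Hom(P, H⁰ N)`; `N` is
arbitrary.
-/

set_option autoImplicit false
set_option linter.style.haveILetI false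

universe w v u

open CategoryTheory CategoryTheory.Limits CategoryTheory.Pretriangulated DerivedCategory

namespace Groth.Agent.CurveDual15

variable {C : Type u} [Category.{v} C] [Abelian C] [HasDerivedCategory.{w} C]

/-- An object in degree `0`. -/
noncomputable abbrev sg (M : C) : DerivedCategory C := (singleFunctor C 0).obj M

/-- `H⁰`. -/
noncomputable abbrev h0 : DerivedCategory C ⥤ C := homologyFunctor C 0

/-- `H⁰` of an object in degree `0`. -/
noncomputable abbrev h0sg (M : C) : h0.obj (sg M) ≅ M :=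
  (singleFunctorCompHomologyFunctorIso C 0).app M

/-- Nothing in positive degrees maps to an injective object in degree `0`. -/
lemma hom_eq_zero_of_isGE (I : C) [Injective I] (A : DerivedCategory C) (a : ℤ) (ha : 0 < a)
    [A.IsGE a] (φ : A ⟶ sg I) : φ = 0 := by
  obtain ⟨K, hK, ⟨e⟩⟩ := exists_iso_Q_obj_of_isGE A a
  haveI := hK
  haveI : ((CochainComplex.singleFunctor C 0).obj I).IsKInjective := by
    refine @CochainComplex.isKInjective_of_injective _ _ _ _ 0 inferInstance fun n => ?_
    by_cases hn : n = 0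
    · subst hn
      exact Injective.of_iso (HomologicalComplex.singleObjXSelf (ComplexShape.up ℤ) 0 I).symm ‹_›
    · exact IsZero.injective (HomologicalComplex.isZero_single_obj_X _ _ _ _ hn)
  let e' : sg I ≅ Q.obj ((CochainComplex.singleFunctor C 0).obj I) :=
    ((SingleFunctors.evaluation _ _ 0).mapIso (singleFunctorsPostcompQIso C)).app I
  suffices h : e.inv ≫ φ ≫ e'.hom = 0 by
    rwa [← cancel_mono e'.hom, ← cancel_epi e.inv, zero_comp, comp_zero]
  obtain ⟨g, hg⟩ := (CochainComplex.IsKInjective.Qh_map_bijective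
    ((HomotopyCategory.quotient C (ComplexShape.up ℤ)).obj K)
    ((CochainComplex.singleFunctor C 0).obj I)).surjective
      ((quotientCompQhIso C).hom.app K ≫ (e.inv ≫ φ ≫ e'.hom) ≫ (quotientCompQhIso C).inv.app _)
  obtain ⟨ψ, rfl⟩ := (HomotopyCategory.quotient C (ComplexShape.up ℤ)).map_surjective g
  have hψ : ψ = 0 := by
    refine HomologicalComplex.hom_ext _ _ fun n => ?_
    by_cases hn : n = 0
    · subst hn
      exact (K.isZero_of_isStrictlyGE a 0 ha).eq_of_src _ _
    · exact (HomologicalComplex.isZero_single_obj_X _ _ _ _ hn).eq_of_tgt _ _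
  rw [hψ, Functor.map_zero, Functor.map_zero] at hg
  rw [← cancel_epi ((quotientCompQhIso C).hom.app K),
    ← cancel_mono ((quotientCompQhIso C).inv.app ((CochainComplex.singleFunctor C 0).obj I))]
  simp only [Category.assoc, comp_zero, zero_comp] at hg ⊢
  exact hg.symm

/-- A projective object in degree `0` maps to nothing in negative degrees. -/
lemma hom_eq_zero_of_isLE (P : C) [Projective P] (A : DerivedCategory C) (a : ℤ) (ha : a < 0)
    [A.IsLE a] (φ : sg P ⟶ A) : φ = 0 := by
  obtain ⟨K, hK, ⟨e⟩⟩ := exists_iso_Q_obj_of_isLE A a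
  haveI := hK
  haveI : ((CochainComplex.singleFunctor C 0).obj P).IsKProjective := by
    refine @CochainComplex.isKProjective_of_projective _ _ _ _ 0 inferInstance fun n => ?_
    by_cases hn : n = 0
    · subst hn
      exact Projective.of_iso (HomologicalComplex.singleObjXSelf (ComplexShape.up ℤ) 0 P).symm ‹_›
    · exact IsZero.projective (HomologicalComplex.isZero_single_obj_X _ _ _ _ hn)
  let e' : sg P ≅ Q.obj ((CochainComplex.singleFunctor C 0).obj P) :=
    ((SingleFunctors.evaluation _ _ 0).mapIso (singleFunctorsPostcompQIso C)).app P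
  suffices h : e'.inv ≫ φ ≫ e.hom = 0 by
    rwa [← cancel_mono e.hom, ← cancel_epi e'.inv, zero_comp, comp_zero]
  obtain ⟨g, hg⟩ := (CochainComplex.IsKProjective.Qh_map_bijective
    ((CochainComplex.singleFunctor C 0).obj P)
    ((HomotopyCategory.quotient C (ComplexShape.up ℤ)).obj K)).surjective
      ((quotientCompQhIso C).hom.app _ ≫ (e'.inv ≫ φ ≫ e.hom) ≫ (quotientCompQhIso C).inv.app K)
  obtain ⟨ψ, rfl⟩ := (HomotopyCategory.quotient C (ComplexShape.up ℤ)).map_surjective g
  have hψ : ψ = 0 := by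
    refine HomologicalComplex.hom_ext _ _ fun n => ?_
    by_cases hn : n = 0
    · subst hn
      exact (K.isZero_of_isStrictlyLE a 0 ha).eq_of_tgt _ _
    · exact (HomologicalComplex.isZero_single_obj_X _ _ _ _ hn).eq_of_src _ _
  rw [hψ, Functor.map_zero, Functor.map_zero] at hg
  rw [← cancel_epi ((quotientCompQhIso C).hom.app ((CochainComplex.singleFunctor C 0).obj P)),
    ← cancel_mono ((quotientCompQhIso C).inv.app K)]
  simp only [Category.assoc, comp_zero, zero_comp] at hg ⊢
  exact hg.symm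

lemma shift_isGE (A : DerivedCategory C) (n a m : ℤ) (h : a + m = n) [A.IsGE n] :
    (A⟦a⟧).IsGE m :=
  TStructure.t.isGE_shift A n a m h

lemma shift_isLE (A : DerivedCategory C) (n a m : ℤ) (h : a + m = n) [A.IsLE n] :
    (A⟦a⟧).IsLE m :=
  TStructure.t.isLE_shift A n a m h

/-- `H⁰` detects morphisms out of an object of degree `0`, when nothing else gets in the way. -/
lemma bijective_h0_sg (M N : C) :
    Function.Bijective (fun φ : sg M ⟶ sg N => h0.map φ) := by
  refine ⟨fun a b h => ?_, fun g => ⟨(singleFunctor C 0).map ((h0sg M).inv ≫ g ≫ (h0sg N).hom), ?_⟩⟩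
  · obtain ⟨a, rfl⟩ := (singleFunctor C 0).map_surjective a
    obtain ⟨b, rfl⟩ := (singleFunctor C 0).map_surjective b
    refine congrArg _ ?_
    have ha := NatIso.naturality_1 (singleFunctorCompHomologyFunctorIso C 0) a
    have hb := NatIso.naturality_1 (singleFunctorCompHomologyFunctorIso C 0) b
    dsimp at ha hb h
    rw [← ha, ← hb, h]
  · have := NatIso.naturality_2 (singleFunctorCompHomologyFunctorIso C 0)
      ((h0sg M).inv ≫ g ≫ (h0sg N).hom)
    dsimp at this ⊢
    rw [← this]
    simp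

/-- The first two vertices of a truncation triangle have the same homology below the cut. -/
lemma isIso_h_mor₁ {T : Triangle (DerivedCategory C)} (hT : T ∈ distTriang (DerivedCategory C))
    (n : ℤ) (h₁ : IsZero ((homologyFunctor C (n - 1)).obj T.obj₃))
    (h₂ : IsZero ((homologyFunctor C n).obj T.obj₃)) : IsIso ((homologyFunctor C n).map T.mor₁) := by
  haveI : Mono ((homologyFunctor C n).map T.mor₁) :=
    (HomologySequence.mono_homologyMap_mor₁_iff _ hT (n - 1) n (by omega)).2 (h₁.eq_of_src _ _)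
  haveI : Epi ((homologyFunctor C n).map T.mor₁) :=
    (HomologySequence.exact₂ _ hT n).epi_f (h₂.eq_of_tgt _ _)
  exact isIso_of_mono_of_epi _

/-- The last two vertices of a truncation triangle have the same homology above the cut. -/
lemma isIso_h_mor₂ {T : Triangle (DerivedCategory C)} (hT : T ∈ distTriang (DerivedCategory C))
    (n : ℤ) (h₁ : IsZero ((homologyFunctor C n).obj T.obj₁))
    (h₂ : IsZero ((homologyFunctor C (n + 1)).obj T.obj₁)) :
    IsIso ((homologyFunctor C n).map T.mor₂) := by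
  haveI : Mono ((homologyFunctor C n).map T.mor₂) :=
    (HomologySequence.exact₂ _ hT n).mono_g (h₁.eq_of_src _ _)
  haveI : Epi ((homologyFunctor C n).map T.mor₂) :=
    (HomologySequence.epi_homologyMap_mor₂_iff _ hT n (n + 1) rfl).2 (h₂.eq_of_tgt _ _)
  exact isIso_of_mono_of_epi _

/-- Precomposition with the first map of a triangle is bijective on maps to `X` when the third
vertex and its negative shift do not map to `X`. -/
lemma bijective_precomp {T : Triangle (DerivedCategory C)} (hT : T ∈ distTriang (DerivedCategory C))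
    (X : DerivedCategory C) (h₃ : ∀ φ : T.obj₃ ⟶ X, φ = 0)
    (h₃' : ∀ φ : T.obj₃⟦(-1 : ℤ)⟧ ⟶ X, φ = 0) :
    Function.Bijective (fun φ : T.obj₂ ⟶ X => T.mor₁ ≫ φ) := by
  constructor
  · intro a b h
    have h0 : T.mor₁ ≫ (a - b) = 0 := by
      rw [Preadditive.comp_sub, sub_eq_zero]
      exact h
    obtain ⟨g, hg⟩ := T.yoneda_exact₂ hT (a - b) h0
    rw [← sub_eq_zero, hg, h₃ g, comp_zero]
  · intro φ
    obtain ⟨g, hg⟩ := T.invRotate.yoneda_exact₂ (inv_rot_of_distTriang _ hT) φ (h₃' _)
    exact ⟨g, hg.symm⟩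

/-- Postcomposition with the second map of a triangle is bijective on maps from `X` when the first
vertex and its shift receive no map from `X`. -/
lemma bijective_postcomp {T : Triangle (DerivedCategory C)} (hT : T ∈ distTriang (DerivedCategory C))
    (X : DerivedCategory C) (h₁ : ∀ φ : X ⟶ T.obj₁, φ = 0)
    (h₁' : ∀ φ : X ⟶ T.obj₁⟦(1 : ℤ)⟧, φ = 0) :
    Function.Bijective (fun φ : X ⟶ T.obj₂ => φ ≫ T.mor₂) := by
  constructor
  · intro a b h
    have h0 : (a - b) ≫ T.mor₂ = 0 := by
      rw [Preadditive.sub_comp, sub_eq_zero]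
      exact h
    obtain ⟨g, hg⟩ := T.coyoneda_exact₂ hT (a - b) h0
    rw [← sub_eq_zero, hg, h₁ g, zero_comp]
  · intro φ
    obtain ⟨g, hg⟩ := T.coyoneda_exact₃ hT φ (h₁' _)
    exact ⟨g, hg.symm⟩

lemma bijective_of_square {A B A' B' : Type*} (f : A → B) (g : A' → B') (a : A → A') (b : B → B')
    (h : ∀ x, b (f x) = g (a x)) (hg : Function.Bijective g) (ha : Function.Bijective a)
    (hb : Function.Bijective b) : Function.Bijective f := by
  have : f = (Equiv.ofBijective b hb).symm ∘ (g ∘ a) := funext fun x => by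
    simp [← h x, Function.comp_apply, Equiv.ofBijective_symm_apply_apply]
  rw [this]
  exact (Equiv.bijective _).comp (hg.comp ha)

lemma bijective_comp_iso {C' : Type*} [Category C'] {A A' B : C'} (f : A ⟶ A') [IsIso f] :
    Function.Bijective (fun φ : A' ⟶ B => f ≫ φ) :=
  ⟨fun a b h => (cancel_epi f).1 h, fun φ => ⟨inv f ≫ φ, by simp⟩⟩

lemma bijective_iso_comp {C' : Type*} [Category C'] {A B B' : C'} (f : B ⟶ B') [IsIso f] :
    Function.Bijective (fun φ : A ⟶ B => φ ≫ f) :=
  ⟨fun a b h => (cancel_mono f).1 h, fun φ => ⟨φ ≫ inv f, by simp⟩⟩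

/-- `Hom(N, I) = Hom(H⁰ N, I)` for `I` injective. -/
theorem bijective_h0_injective (I : C) [Injective I] (N : DerivedCategory C) :
    Function.Bijective (fun φ : N ⟶ sg I => h0.map φ) := by
  obtain ⟨A, B, hA, hB, a, b, c, hT⟩ := TStructure.t.exists_triangle N 0 1 rfl
  haveI : A.IsLE 0 := ⟨hA⟩
  haveI : B.IsGE 1 := ⟨hB⟩
  obtain ⟨A', S, hA', hS, a', b', c', hT'⟩ := TStructure.t.exists_triangle A (-1) 0 rfl
  haveI : A'.IsLE (-1) := ⟨hA'⟩
  haveI : S.IsGE 0 := ⟨hS⟩
  haveI : S.IsLE 0 := by
    rw [isLE_iff]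
    intro i hi
    haveI : IsIso ((homologyFunctor C i).map b') := isIso_h_mor₂ hT' i (isZero_of_isLE A' (-1) i (by omega))
      (isZero_of_isLE A' (-1) (i + 1) (by omega))
    exact (isZero_of_isLE A 0 i hi).of_iso (asIso ((homologyFunctor C i).map b')).symm
  obtain ⟨M, ⟨eM⟩⟩ := exists_iso_singleFunctor_obj_of_isGE_of_isLE S 0
  haveI : IsIso (h0.map a) := isIso_h_mor₁ hT 0 (isZero_of_isGE B 1 _ (by omega)) (isZero_of_isGE B 1 0 (by omega))
  haveI : IsIso (h0.map b') := isIso_h_mor₂ hT' 0 (isZero_of_isLE A' (-1) 0 (by omega))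
    (isZero_of_isLE A' (-1) _ (by omega))
  haveI := shift_isGE B 1 (-1) 2 (by omega)
  haveI := shift_isLE A' (-1) 1 (-2) (by omega)
  haveI : (sg I).IsGE 0 := inferInstance
  have hS' : Function.Bijective (fun φ : S ⟶ sg I => h0.map φ) :=
    bijective_of_square _ (fun φ : sg M ⟶ sg I => h0.map φ) (fun φ => eM.inv ≫ φ)
      (fun φ => h0.map eM.inv ≫ φ) (fun φ => (Functor.map_comp _ _ _).symm) (bijective_h0_sg M I)
      (bijective_comp_iso eM.inv) (bijective_comp_iso (h0.map eM.inv))
  have hA0 : Function.Bijective (fun φ : A ⟶ sg I => h0.map φ) := by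
    have hp' : Function.Bijective (fun φ : S ⟶ sg I => b' ≫ φ) := by
      constructor
      · intro x y h
        have h0' : b' ≫ (x - y) = 0 := by rw [Preadditive.comp_sub, sub_eq_zero]; exact h
        obtain ⟨g, hg⟩ := Triangle.yoneda_exact₃ _ hT' (x - y) h0'
        rw [← sub_eq_zero, hg,
          show g = 0 from TStructure.t.zero (X := A'⟦(1 : ℤ)⟧) (Y := sg I) g (-2) 0]
        exact comp_zero
      · intro φ
        obtain ⟨g, hg⟩ := Triangle.yoneda_exact₂ _ hT' φ
          (TStructure.t.zero (X := A') (Y := sg I) _ (-1) 0)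
        exact ⟨g, hg.symm⟩
    refine ⟨fun x y h => ?_, fun g => ?_⟩
    · obtain ⟨x, rfl⟩ := hp'.surjective x
      obtain ⟨y, rfl⟩ := hp'.surjective y
      simp only [Functor.map_comp, cancel_epi] at h
      exact congrArg _ (hS'.injective h)
    · obtain ⟨x, hx⟩ := hS'.surjective (inv (h0.map b') ≫ g)
      exact ⟨b' ≫ x, by simp [dsimp% hx]⟩
  refine bijective_of_square _ (fun φ : A ⟶ sg I => h0.map φ) (fun φ => a ≫ φ)
    (fun φ => h0.map a ≫ φ) (fun φ => (Functor.map_comp _ _ _).symm) hA0 ?_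
    (bijective_comp_iso (h0.map a))
  exact bijective_precomp hT (sg I) (hom_eq_zero_of_isGE I B 1 one_pos)
    (hom_eq_zero_of_isGE I (B⟦(-1 : ℤ)⟧) 2 two_pos)

/-- `Hom(P, N) = Hom(P, H⁰ N)` for `P` projective. -/
theorem bijective_h0_projective (P : C) [Projective P] (N : DerivedCategory C) :
    Function.Bijective (fun φ : sg P ⟶ N => h0.map φ) := by
  obtain ⟨A, B, hA, hB, a, b, c, hT⟩ := TStructure.t.exists_triangle N (-1) 0 rfl
  haveI : A.IsLE (-1) := ⟨hA⟩
  haveI : B.IsGE 0 := ⟨hB⟩
  obtain ⟨S, B', hS, hB', a', b', c', hT'⟩ := TStructure.t.exists_triangle B 0 1 rfl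
  haveI : S.IsLE 0 := ⟨hS⟩
  haveI : B'.IsGE 1 := ⟨hB'⟩
  haveI : S.IsGE 0 := by
    rw [isGE_iff]
    intro i hi
    haveI : IsIso ((homologyFunctor C i).map a') := isIso_h_mor₁ hT' i (isZero_of_isGE B' 1 _ (by omega)) (isZero_of_isGE B' 1 i (by omega))
    exact (isZero_of_isGE B 0 i hi).of_iso (asIso ((homologyFunctor C i).map a'))
  obtain ⟨M, ⟨eM⟩⟩ := exists_iso_singleFunctor_obj_of_isGE_of_isLE S 0
  haveI : IsIso (h0.map b) := isIso_h_mor₂ hT 0 (isZero_of_isLE A (-1) 0 (by omega)) (isZero_of_isLE A (-1) _ (by omega))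
  haveI : IsIso (h0.map a') := isIso_h_mor₁ hT' 0 (isZero_of_isGE B' 1 _ (by omega)) (isZero_of_isGE B' 1 0 (by omega))
  haveI := shift_isLE A (-1) 1 (-2) (by omega)
  haveI := shift_isGE B' 1 (-1) 2 (by omega)
  haveI : (sg P).IsLE 0 := inferInstance
  have hS' : Function.Bijective (fun φ : sg P ⟶ S => h0.map φ) :=
    bijective_of_square _ (fun φ : sg P ⟶ sg M => h0.map φ) (fun φ => φ ≫ eM.hom)
      (fun φ => φ ≫ h0.map eM.hom) (fun φ => (Functor.map_comp _ _ _).symm) (bijective_h0_sg P M)
      (bijective_iso_comp eM.hom) (bijective_iso_comp (h0.map eM.hom))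
  have hp' : Function.Bijective (fun φ : sg P ⟶ S => φ ≫ a') := by
    constructor
    · intro x y h
      have h0' : (x - y) ≫ a' = 0 := by rw [Preadditive.sub_comp, sub_eq_zero]; exact h
      obtain ⟨g, hg⟩ := Triangle.coyoneda_exact₂ _ (inv_rot_of_distTriang _ hT') (x - y) h0'
      rw [← sub_eq_zero, hg,
        show g = 0 from TStructure.t.zero (X := sg P) (Y := B'⟦(-1 : ℤ)⟧) g 0 2]
      exact zero_comp
    · intro φ
      obtain ⟨g, hg⟩ := Triangle.coyoneda_exact₂ _ hT' φ
        (TStructure.t.zero (X := sg P) (Y := B') _ 0 1)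
      exact ⟨g, hg.symm⟩
  have hB0 : Function.Bijective (fun φ : sg P ⟶ B => h0.map φ) := by
    refine ⟨fun x y h => ?_, fun g => ?_⟩
    · obtain ⟨x, rfl⟩ := hp'.surjective x
      obtain ⟨y, rfl⟩ := hp'.surjective y
      simp only [Functor.map_comp, cancel_mono] at h
      exact congrArg (· ≫ a') (hS'.injective h)
    · obtain ⟨x, hx⟩ := hS'.surjective (g ≫ inv (h0.map a'))
      exact ⟨x ≫ a', by simp [dsimp% hx]⟩
  refine bijective_of_square _ (fun φ : sg P ⟶ B => h0.map φ) (fun φ => φ ≫ b)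
    (fun φ => φ ≫ h0.map b) (fun φ => (Functor.map_comp _ _ _).symm) hB0 ?_
    (bijective_iso_comp (h0.map b))
  exact bijective_postcomp hT (sg P) (hom_eq_zero_of_isLE P A (-1) (by omega))
    (hom_eq_zero_of_isLE P (A⟦(1 : ℤ)⟧) (-2) (by omega))

end Groth.Agent.CurveDual15
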